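/-
The orthogonal similarity group is maximal in SL in dimension four, odd characteristic.
-/
import Cfsg.Agent.Geo.OrthogonalOvergroup
import Cfsg.Agent.Geo.UnitaryOvergroup
import Cfsg.Agent.Forms.Classify

set_option autoImplicit false

namespace CfsgLib.Geo.Orth4

open Matrix Cfsg Cfsg.Geo CfsgLib.Geo CfsgLib.Geo.Orth

variable {ι : Type} [Fintype ι] [DecidableEq ι] {F : Type*} [Field F] [Finite F]

omit [Fintype ι] [DecidableEq ι] in
/-- An additive predicate containing the square multiples of a non-zero element holds everywhere. -/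
lemma of_squares {p : F → Prop} (h2 : (2 : F) ≠ 0) {k : F} (hk : k ≠ 0) (hsq : ∀ x, p (x * x * k))
    (hadd : ∀ a b, p a → p b → p (a + b)) (c : F) : p c := by
  obtain ⟨x, y, h⟩ := CfsgLib.Forms.exists_binary h2 one_ne_zero one_ne_zero (c / k)
  have e : c = x * x * k + y * y * k := by
    rw [← add_mul, show x * x + y * y = c / k by linear_combination h, div_mul_cancel₀ _ hk]
  rw [e]
  exact hadd _ _ (hsq x) (hsq y)

omit [Finite F] in
/-- An element fixing `a` and trivial modulo `a` is a transvection centred at `a`. -/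
lemma hasTv_of_fix {M : Subgroup (GL ι F)} {K : GL ι F} (hK : K ∈ M) {a : ι → F} (ha : a ≠ 0)
    (hKa : (K : Matrix ι ι F) *ᵥ a = a) (h : ∀ y, ∃ r : F, (K : Matrix ι ι F) *ᵥ y = y + r • a) (hK1 : K ≠ 1) :
    ∃ φ, φ ≠ 0 ∧ HasTv M a φ := by
  obtain ⟨j, hj⟩ := Function.ne_iff.1 ha
  simp only [Pi.zero_apply] at hj
  set φ : ι → F := (a j)⁻¹ • ((K : Matrix ι ι F) - 1) j with hφdef
  have hdot : ∀ y, φ ⬝ᵥ y = (a j)⁻¹ * (((K : Matrix ι ι F) *ᵥ y) j - y j) := fun y => by
    rw [hφdef, smul_dotProduct, smul_eq_mul]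
    congr 1
    change (((K : Matrix ι ι F) - 1) *ᵥ y) j = _
    rw [Matrix.sub_mulVec, Matrix.one_mulVec, Pi.sub_apply]
  have hd : φ ⬝ᵥ a = 0 := by rw [hdot, hKa, sub_self, mul_zero]
  have e : tvec a φ hd = K := gl_ext_mulVec fun y => by
    obtain ⟨r, hr⟩ := h y
    rw [tvec_mulVec, hdot, hr]
    simp [hj, mul_comm r]
  refine ⟨φ, fun h0 => hK1 ?_, hd, by rw [e]; exact hK⟩
  rw [← e]
  exact gl_ext_mulVec fun y => by simp [tvec_mulVec, h0]

variable {f : (ι → F) → (ι → F) → F} (hf : IsSymmForm f)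
  {M : Subgroup (GL ι F)} (hM : similarityGroup f ⊓ specialLinear ι F ≤ M)
include hf

/-- A singular vector has a singular partner orthogonal to a given one. -/
lemma exists_partner {z : ι → F} (hz : f z z = 0) {k : ℕ} (us : Fin k → (ι → F)) (hzu : ∀ j, f z (us j) = 0)
    (hout : z ∉ Submodule.span F (Set.range us)) :
    ∃ z', f z' z' = 0 ∧ f z z' = 1 ∧ f z' z = 1 ∧ ∀ j, f z' (us j) = 0 := by
  obtain ⟨p, hzp, hpu⟩ := exists_dual_of_fn hf us hout
  have h2 := hf.two
  refine ⟨p + (-f p p / 2) • z, ?_, ?_, ?_, fun j => ?_⟩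
  · simp only [hf.add_left, add_right hf, hf.smul_left, smul_right hf, hz, hzp, hf.symm p z]
    field_simp
    ring
  · rw [add_right hf, smul_right hf, hzp, hz, mul_zero, add_zero]
  · rw [hf.add_left, hf.smul_left, hf.symm p z, hzp, hz, mul_zero, add_zero]
  · rw [hf.add_left, hf.smul_left, hpu, hzu, mul_zero, add_zero]

variable (hn : 4 ≤ Fintype.card ι)
include hn

lemma exists_pair_one {u : ι → F} (hu : f u u ≠ 0) :
    ∃ z w, f z z = 0 ∧ f w w = 0 ∧ f z w = 1 ∧ f w z = 1 ∧ f z u = 0 ∧ f w u = 0 := by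
  have hrad : LinearMap.ker (LinearMap.pi fun j => lin hf (![u] j)) ⊓
      Submodule.span F (Set.range ![u]) = ⊥ := by
    rw [Submodule.eq_bot_iff]
    rintro x ⟨hx, hxS⟩
    obtain ⟨r, rfl⟩ := (Submodule.mem_span_range_iff_exists_fun F).1 hxS
    have e0 : f (∑ i, r i • ![u] i) u = 0 := congrFun (LinearMap.mem_ker.1 hx) 0
    simp only [Fin.sum_univ_one, Matrix.cons_val_fin_one, hf.smul_left] at e0 ⊢
    rw [(mul_eq_zero.1 e0).resolve_right hu, zero_smul]
  have h1 := (LinearMap.pi fun j => lin hf (![u] j)).finrank_range_add_finrank_ker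
  have h2 : Module.finrank F (LinearMap.range (LinearMap.pi fun j => lin hf (![u] j))) ≤ 1 := by
    simpa using Submodule.finrank_le (LinearMap.range (LinearMap.pi fun j => lin hf (![u] j)))
  rw [Module.finrank_fintype_fun_eq_card] at h1
  obtain ⟨z, w, hz, hw, hzw, hwz, hzu, hwu⟩ := exists_pair_rad hf ![u] (by rw [hrad, finrank_bot]; omega)
  exact ⟨z, w, hz, hw, hzw, hwz, hzu 0, hwu 0⟩

lemma exists_aniso_two {u z : ι → F} (hu : f u u ≠ 0) (hzu : f z u = 0) :
    ∃ x, f x x ≠ 0 ∧ f x z = 0 ∧ f x u = 0 := by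
  have hle : LinearMap.ker (LinearMap.pi fun j => lin hf (![z, u] j)) ⊓
      Submodule.span F (Set.range ![z, u]) ≤ F ∙ z := by
    rintro x ⟨hx, hxS⟩
    obtain ⟨r, rfl⟩ := (Submodule.mem_span_range_iff_exists_fun F).1 hxS
    have e1 : f (∑ i, r i • ![z, u] i) u = 0 := congrFun (LinearMap.mem_ker.1 hx) 1
    simp only [Fin.sum_univ_two, Matrix.cons_val_zero, Matrix.cons_val_one, hf.add_left, hf.smul_left, hzu,
      mul_zero, zero_add] at e1 ⊢
    rw [(mul_eq_zero.1 e1).resolve_right hu, zero_smul, add_zero]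
    exact Submodule.smul_mem _ _ (Submodule.mem_span_singleton_self z)
  have h1 := (LinearMap.pi fun j => lin hf (![z, u] j)).finrank_range_add_finrank_ker
  have h2 : Module.finrank F (LinearMap.range (LinearMap.pi fun j => lin hf (![z, u] j))) ≤ 2 := by
    simpa using Submodule.finrank_le (LinearMap.range (LinearMap.pi fun j => lin hf (![z, u] j)))
  have h3 := (Submodule.finrank_mono hle).trans (finrank_span_le_card ({z} : Set (ι → F)))
  rw [Module.finrank_fintype_fun_eq_card] at h1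
  simp only [Set.toFinset_singleton, Finset.card_singleton] at h3
  obtain ⟨x, hx, hxu, -⟩ := exists_aniso_rad hf ![z, u] (Fin.elim0 : Fin 0 → (ι → F)) (fun i => i.elim0)
    (fun i => i.elim0) (fun i => i.elim0) (by omega)
  exact ⟨x, hx, hxu 0, hxu 1⟩

include hM

/-- With an anisotropic axis one non-zero centre gives all. -/
lemma aniso_axis {u d : ι → F} (hu : f u u ≠ 0) (hd0 : d ≠ 0) (h : HasTv M d (axisOf f u)) :
    ∀ b, f b u = 0 → HasTv M b (axisOf f u) := by
  have h2 := hf.two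
  have L := linLeft hf
  have line : ∀ z d', f z z = 0 → f z u = 0 → f d' z ≠ 0 → HasTv M d' (axisOf f u) →
      ∀ c : F, HasTv M (c • z) (axisOf f u) := by
    intro z d' hz hzu hdz hd'
    obtain ⟨x, hxx, hxz, hxu⟩ := exists_aniso_two hf hn hu hzu
    have hm : ∀ t : F, HasTv M (d' + (f d' z) • (t • x) + (-(t * t * f x x) / 2 * f d' z - t * f d' x) • z)
        (axisOf f u) := fun t => by
      have htz : f (t • x) z = 0 := by rw [hf.smul_left, hxz, mul_zero]
      obtain ⟨E, hE, hEe⟩ := exists_root hf hM hz htz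
      have h1 := hasTv_moved hf hM hE (isH_preserves hf hz htz hEe) hd'
      have e1 : (E : Matrix ι ι F) *ᵥ u = u := by
        rw [hEe u]; simp only [hf.symm u z, hzu, hf.symm u (t • x), hf.smul_left, hxu]; module
      rw [e1, hEe d'] at h1
      simp only [hf.smul_left, smul_right hf] at h1
      convert h1 using 1
      match_scalars <;> ring
    refine of_squares h2 (k := -f x x * f d' z) (mul_ne_zero (neg_ne_zero.2 hxx) hdz) (fun t => ?_)
      (fun a b ha hb => by rw [add_smul]; exact ha.add_center hb)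
    have h3 := (((hm t).add_center (hm (-t))).sub_center hd').sub_center hd'
    convert h3 using 1
    match_scalars <;> field_simp <;> ring
  have hdu : f d u = 0 := by rw [← L.dot u d]; exact h.dot
  obtain ⟨z, w, hz, hw, hzw, hwz, hzu, hwu⟩ := exists_pair_one hf hn hu
  obtain ⟨z0, hz0, hz0u, hdz0⟩ : ∃ z0, f z0 z0 = 0 ∧ f z0 u = 0 ∧ f d z0 ≠ 0 := by
    by_contra hcon
    push Not at hcon
    have hperp : ∀ y, f y u = 0 → f d y = 0 := fun y hy =>
      sing_of_pair hf ![u] hz hw hzw hwz (fun j => by simpa using hzu) (fun j => by simpa using hwu)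
        (p := fun y => f d y = 0) (fun a b ha hb => by rw [add_right hf, ha, hb, add_zero])
        (fun a ha hau => hcon a ha (by simpa using hau 0)) (fun j => by simpa using hy)
    obtain ⟨y, hy⟩ := (hf.nondegenerate _ hd0).1
    refine hy ?_
    have h3 := hperp (y + (-(f y u / f u u)) • u) (by
      rw [hf.add_left, hf.smul_left, neg_mul, div_mul_cancel₀ _ hu, add_neg_cancel])
    rw [add_right hf, smul_right hf, hdu, mul_zero, add_zero] at h3
    rw [hf.symm]; exact h3
  have hz00 : z0 ≠ 0 := fun e => hdz0 (by rw [e, zero_right hf])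
  have hout : z0 ∉ Submodule.span F (Set.range ![u]) := by
    intro hm
    rw [Matrix.range_cons, Matrix.range_empty, Set.union_empty] at hm
    obtain ⟨r, hr⟩ := Submodule.mem_span_singleton.1 hm
    have h3 : f z0 u = r * f u u := by rw [← hr, hf.smul_left]
    rw [hz0u, eq_comm, mul_eq_zero] at h3
    exact hz00 (by rw [← hr, h3.resolve_right hu, zero_smul])
  obtain ⟨z1, hz1, h01, h10, hz1u'⟩ := exists_partner hf hz0 ![u] (fun j => by simpa using hz0u) hout
  have hz1u : f z1 u = 0 := hz1u' 0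
  have hl0 := line z0 d hz0 hz0u hdz0 h
  have hl1 := line z1 z0 hz1 hz1u (by rw [h01]; exact one_ne_zero) (by simpa using hl0 1)
  intro b hbu
  obtain ⟨r, hr⟩ : ∃ r, r = b + (-f b z1) • z0 + (-f b z0) • z1 := ⟨_, rfl⟩
  have r0 : f r z0 = 0 := by
    rw [hr, hf.add_left, hf.add_left, hf.smul_left, hf.smul_left, hz0, h10]; ring
  have r1 : f r z1 = 0 := by
    rw [hr, hf.add_left, hf.add_left, hf.smul_left, hf.smul_left, hz1, h01]; ring
  have ru : f r u = 0 := by
    rw [hr, hf.add_left, hf.add_left, hf.smul_left, hf.smul_left, hbu, hz0u, hz1u]; ring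
  obtain ⟨w', hw'⟩ : ∃ w', w' = z0 + r + (-f r r / 2) • z1 := ⟨_, rfl⟩
  have hw'w : f w' w' = 0 := by
    simp only [hw', hf.add_left, add_right hf, hf.smul_left, smul_right hf, hz0, hz1, h01, h10, r0, r1,
      hf.symm z0 r, hf.symm z1 r]
    field_simp
    ring
  have hw'u : f w' u = 0 := by rw [hw', hf.add_left, hf.add_left, hf.smul_left, hz0u, hz1u, ru]; ring
  have hw'1 : f z1 w' ≠ 0 := by
    rw [hw', add_right hf, add_right hf, smul_right hf, hz1, h10, hf.symm z1 r, r1]; simp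
  have hlw := line w' z1 hw'w hw'u hw'1 (by simpa using hl1 1)
  have e : b = (1 : F) • w' + (f b z1 - 1) • z0 + (f b z0 + f r r / 2) • z1 := by
    rw [hw', hr]
    module
  rw [e]
  exact ((hlw 1).add_center (hl0 _)).add_center (hl1 _)

/-- A transvection gives the transvections on a singular line. -/
lemma exists_line {u d : ι → F} (hu0 : u ≠ 0) (hd0 : d ≠ 0) (h : HasTv M d (axisOf f u)) :
    ∃ v, f v v = 0 ∧ v ≠ 0 ∧ ∀ c : F, HasTv M (c • v) (axisOf f v) := by
  have h2 := hf.two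
  have L := linLeft hf
  by_cases hu : f u u = 0
  · refine ⟨u, hu, hu0, ?_⟩
    by_cases hd : d ∈ F ∙ u
    · obtain ⟨k, rfl⟩ := Submodule.mem_span_singleton.1 hd
      obtain ⟨w, hw, huw, hwu, -⟩ := exists_partner hf hu (Fin.elim0 : Fin 0 → (ι → F)) (fun j => j.elim0)
        (by simpa using hu0)
      refine of_squares h2 (k := k) (fun e => hd0 (by rw [e, zero_smul])) (fun t => ?_)
        (fun a b ha hb => by rw [add_smul]; exact ha.add_center hb)
      rcases eq_or_ne t 0 with rfl | ht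
      · rw [zero_mul, zero_mul, zero_smul]; exact hasTv_zero_left M _
      have e1 : ((t - 1) • axisOf f w) ⬝ᵥ u = t - 1 := by rw [smul_dotProduct, L.dot, huw]; simp
      have e2 : ((t⁻¹ - 1) • axisOf f u) ⬝ᵥ w = t⁻¹ - 1 := by rw [smul_dotProduct, L.dot, hwu]; simp
      set g : GL ι F := Unit.dil u ((t - 1) • axisOf f w) (by rw [e1, add_sub_cancel]; exact ht) *
        Unit.dil w ((t⁻¹ - 1) • axisOf f u) (by rw [e2, add_sub_cancel]; exact inv_ne_zero ht) with hg
      have hdet : (g : Matrix ι ι F).det = 1 := by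
        rw [hg, Units.val_mul, Matrix.det_mul, Unit.det_dil, Unit.det_dil, e1, e2]
        field_simp
        ring
      have happ : ∀ y, (g : Matrix ι ι F) *ᵥ y =
          y + ((t⁻¹ - 1) * f y u) • w + ((t - 1) * f y w) • u := fun y => by
        simp only [hg, mul_mulVec, Unit.dil_mulVec, smul_dotProduct, L.dot, smul_eq_mul, hf.add_left,
          hf.smul_left, hw, mul_zero, add_zero]
      have hiso : ∀ y z, f ((g : Matrix ι ι F) *ᵥ y) ((g : Matrix ι ι F) *ᵥ z) = f y z := fun y z => by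
        rw [happ, happ]
        simp only [hf.add_left, add_right hf, hf.smul_left, smul_right hf, hu, hw, huw, hwu, mul_zero, add_zero,
          mul_one, hf.symm u z, hf.symm w z]
        field_simp
        ring
      have hgu : (g : Matrix ι ι F) *ᵥ u = t • u := by rw [happ, hu, huw]; module
      have hgM : g ∈ M := hM ⟨⟨1, fun y z => by rw [hiso, Units.val_one, one_mul]⟩, mem_specialLinear.2 hdet⟩
      have h3 := hasTv_moved hf hM hgM hiso h
      rw [Matrix.mulVec_smul, hgu, smul_smul,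
        show axisOf f (t • u) = t • axisOf f u from funext fun i => smul_right hf t _ u,
        ← hasTv_smul_iff t ht, smul_smul] at h3
      rwa [show t * t * k = t * (k * t) by ring]
    · -- a centre off the axis point
      intro c
      have hdu : f d u = 0 := by rw [← L.dot u d]; exact h.dot
      obtain ⟨x0, hdx, hx0⟩ := exists_dual_of_fn hf ![u] (by simpa [Matrix.range_cons, Matrix.range_empty] using hd)
      have hxu : f ((-c) • x0) u = 0 := by rw [hf.smul_left, show f x0 u = 0 by simpa using hx0 0, mul_zero]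
      obtain ⟨E, hE, hEe⟩ := exists_root hf hM hu hxu
      have hEu : (E : Matrix ι ι F) *ᵥ u = u := by
        rw [hEe u, hu, hf.symm u ((-c) • x0), hxu]; module
      have hEd : (E : Matrix ι ι F) *ᵥ d = d + c • u := by
        rw [hEe d, hdu]
        simp only [smul_right hf, hdx]
        module
      have h1 := hasTv_moved hf hM hE (isH_preserves hf hu hxu hEe) h
      rw [hEd, hEu] at h1
      have h3 := h1.sub_center h
      rwa [add_sub_cancel_left] at h3
  · obtain ⟨z, w, hz, -, hzw, -, hzu, -⟩ := exists_pair_one hf hn hu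
    have hz0 : z ≠ 0 := fun e => zero_ne_one (α := F) (by rw [← hzw, e, zero_left hf])
    refine ⟨z, hz, hz0, fun c => ?_⟩
    have hcz : HasTv M (c • z) (axisOf f u) :=
      aniso_axis hf hM hn hu hd0 h _ (by rw [hf.smul_left, hzu, mul_zero])
    obtain ⟨t, ht⟩ : ∃ t, t = -1 / f u u := ⟨_, rfl⟩
    have htz : f (t • u) z = 0 := by rw [hf.smul_left, hf.symm u z, hzu, mul_zero]
    obtain ⟨E, hE, hEe⟩ := exists_root hf hM hz htz
    have hEz : (E : Matrix ι ι F) *ᵥ (c • z) = c • z := by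
      rw [Matrix.mulVec_smul, hEe z, hz, hf.symm z (t • u), htz]; module
    have hEu : (E : Matrix ι ι F) *ᵥ u = u + z := by
      rw [hEe u]; simp only [hf.symm u z, hzu, smul_right hf, hf.smul_left, ht, div_mul_cancel₀ _ hu]; module
    have h1 := hasTv_moved hf hM hE (isH_preserves hf hz htz hEe) hcz
    rw [hEz, hEu] at h1
    have h3 := h1.sub_axis hcz
    rwa [show axisOf f (u + z) - axisOf f u = axisOf f z from funext fun i => by
      simp [axisOf, add_right hf]] at h3

/-- A singular line of transvections gives a full centre. -/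
lemma fullAt_of_line {v : ι → F} (hv : f v v = 0) (hv0 : v ≠ 0) (h : ∀ c : F, HasTv M (c • v) (axisOf f v)) :
    FullAt M v := by
  have h2 := hf.two
  have L := linLeft hf
  obtain ⟨w, hw, hvw, hwv, -⟩ := exists_partner hf hv (Fin.elim0 : Fin 0 → (ι → F)) (fun j => j.elim0)
    (by simpa using hv0)
  have hpair : ∃ x, f x x ≠ 0 ∧ f x w = 0 ∧ f x v = 0 := by
    have hrad : LinearMap.ker (LinearMap.pi fun j => lin hf (![v, w] j)) ⊓
        Submodule.span F (Set.range ![v, w]) = ⊥ := by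
      rw [Submodule.eq_bot_iff]
      rintro x ⟨hx, hxS⟩
      obtain ⟨r, rfl⟩ := (Submodule.mem_span_range_iff_exists_fun F).1 hxS
      have e0 : f (∑ i, r i • ![v, w] i) v = 0 := congrFun (LinearMap.mem_ker.1 hx) 0
      have e1 : f (∑ i, r i • ![v, w] i) w = 0 := congrFun (LinearMap.mem_ker.1 hx) 1
      simp only [Fin.sum_univ_two, Matrix.cons_val_zero, Matrix.cons_val_one, hf.add_left, hf.smul_left, hv, hw,
        hvw, hwv, mul_zero, mul_one, zero_add, add_zero] at e0 e1 ⊢
      rw [e0, e1, zero_smul, zero_smul, add_zero]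
    have h1 := (LinearMap.pi fun j => lin hf (![v, w] j)).finrank_range_add_finrank_ker
    have h2 : Module.finrank F (LinearMap.range (LinearMap.pi fun j => lin hf (![v, w] j))) ≤ 2 := by
      simpa using Submodule.finrank_le (LinearMap.range (LinearMap.pi fun j => lin hf (![v, w] j)))
    rw [Module.finrank_fintype_fun_eq_card] at h1
    obtain ⟨x, hx, hxu, -⟩ := exists_aniso_rad hf ![v, w] (Fin.elim0 : Fin 0 → (ι → F)) (fun i => i.elim0)
      (fun i => i.elim0) (fun i => i.elim0) (by rw [hrad, finrank_bot]; omega)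
    exact ⟨x, hx, hxu 1, hxu 0⟩
  obtain ⟨x, hxx, hxw, hxv⟩ := hpair
  obtain ⟨E, hE, hEe⟩ := exists_root hf hM hw hxw
  have hiso := isH_preserves hf hw hxw hEe
  obtain ⟨κ, hκ⟩ : ∃ κ, κ = -f x x / 2 := ⟨_, rfl⟩
  have hκ0 : κ ≠ 0 := by rw [hκ]; exact div_ne_zero (neg_ne_zero.2 hxx) h2
  set v1 := (E : Matrix ι ι F) *ᵥ v with hv1
  have hl1 : ∀ c : F, HasTv M (c • v1) (axisOf f v1) := fun c => by
    have h1 := hasTv_moved hf hM hE hiso (h c)
    rwa [Matrix.mulVec_smul] at h1
  have hv11 : f v1 v1 = 0 := by rw [hv1, hiso, hv]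
  have hvv1 : f v v1 = κ := by
    rw [hv1, hEe v, add_right hf, add_right hf, smul_right hf, smul_right hf, hv, hvw, hf.symm v x, hxv, hκ]
    ring
  have hv1v : f v1 v = κ := by rw [hf.symm, hvv1]
  obtain ⟨hd, hT⟩ := hl1 κ⁻¹
  have h0 : HasTv M v (axisOf f v) := by simpa using h 1
  have h1 := h0.conj hT
  have e1 : (tvec (κ⁻¹ • v1) (axisOf f v1) hd : Matrix ι ι F) *ᵥ v = v + v1 := by
    rw [tvec_mulVec, L.dot, hvv1, smul_smul, mul_inv_cancel₀ hκ0, one_smul]
  have e2 : axisOf f v ᵥ* ((tvec (κ⁻¹ • v1) (axisOf f v1) hd)⁻¹ : GL ι F).val =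
      axisOf f (v + (-1 : F) • v1) := by
    refine dotProduct_eq _ _ fun y => ?_
    obtain ⟨y', rfl⟩ : ∃ y', y = (tvec (κ⁻¹ • v1) (axisOf f v1) hd : Matrix ι ι F) *ᵥ y' :=
      ⟨_, (mulVec_inv_mulVec _ y).symm⟩
    rw [← Matrix.dotProduct_mulVec, inv_mulVec_mulVec, tvec_mulVec, L.dot, L.dot, L.dot]
    simp only [hf.add_left, add_right hf, hf.smul_left, smul_right hf, hv11, hv1v]
    field_simp
    ring
  rw [e1, e2] at h1
  set u := v + (-1 : F) • v1 with hu
  have huu : f u u ≠ 0 := by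
    have e : f u u = -(2 * κ) := by
      simp only [hu, hf.add_left, add_right hf, hf.smul_left, smul_right hf, hv, hv11, hvv1, hv1v]; ring
    rw [e]; exact neg_ne_zero.2 (mul_ne_zero h2 hκ0)
  have hd0 : v + v1 ≠ 0 := fun e => hκ0 (by
    rw [← hvv1, show v1 = (-1 : F) • v by rw [neg_one_smul]; exact eq_neg_of_add_eq_zero_right e, smul_right hf, hv,
      mul_zero])
  have hall := aniso_axis hf hM hn huu hd0 h1
  have hvu : f v u = -κ := by rw [hu, add_right hf, smul_right hf, hv, hvv1]; ring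
  have haxis : ∀ d, f d v = 0 → HasTv M d (axisOf f v) := by
    intro d hdv
    obtain ⟨b, hb⟩ : ∃ b, b = d + (f d u / κ) • v := ⟨_, rfl⟩
    have hbu : f b u = 0 := by rw [hb, hf.add_left, hf.smul_left, hvu]; field_simp; ring
    have hbv : f b v = 0 := by rw [hb, hf.add_left, hf.smul_left, hdv, hv]; ring
    have h3 := (hall ((f v u)⁻¹ • b) (by rw [hf.smul_left, hbu, mul_zero])).comm h0
      (by rw [L.dot, hf.smul_left, hbv, mul_zero])
    rw [L.dot, ← hasTv_smul_iff _ (by rw [hvu]; exact neg_ne_zero.2 hκ0), smul_smul,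
      mul_inv_cancel₀ (by rw [hvu]; exact neg_ne_zero.2 hκ0), one_smul] at h3
    have h4 := h3.add_center (h (-(f d u / κ)))
    rwa [hb, add_assoc, ← add_smul, add_neg_cancel, zero_smul, add_zero] at h4
  intro φ hφ
  obtain ⟨x', rfl⟩ := exists_axis hf φ
  rw [L.dot, hf.symm] at hφ
  obtain ⟨R, hR, hRe⟩ := exists_root hf hM hv hφ
  obtain ⟨s, hs⟩ : ∃ s, s = -f x' x' / 2 := ⟨_, rfl⟩
  obtain ⟨hd1, hT1⟩ := haxis (x' + s • v) (by rw [hf.add_left, hf.smul_left, hφ, hv]; ring)
  have h5 : HasTv M (-v) (axisOf f x') := by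
    have hd2 : axisOf f x' ⬝ᵥ (-v) = 0 := by rw [dotProduct_neg, L.dot, hf.symm, hφ, neg_zero]
    refine ⟨hd2, ?_⟩
    have hm := M.mul_mem (M.inv_mem hT1) hR
    suffices tvec (-v) (axisOf f x') hd2 = (tvec (x' + s • v) (axisOf f v) hd1)⁻¹ * R by rwa [this]
    rw [eq_inv_mul_iff_mul_eq]
    refine gl_ext_mulVec fun y => ?_
    rw [mul_mulVec, hRe y, tvec_mulVec, tvec_mulVec, ← hs]
    simp only [L.dot, ← neg_one_smul F v, hf.add_left, hf.smul_left, hv]
    module
  simpa using h5.neg_center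

/-- A full singular centre gives SL. -/
lemma specialLinear_le_of_fullAt {w : ι → F} (hw : f w w = 0) (hw0 : w ≠ 0) (h : FullAt M w) :
    specialLinear ι F ≤ M := by
  have h2 := hf.two
  refine specialLinear_le_of_fullSubmodule (eq_top_iff.2 ?_)
  obtain ⟨u, huu, hwu, -, -⟩ := exists_partner hf hw (Fin.elim0 : Fin 0 → (ι → F)) (fun j => j.elim0)
    (by simpa using hw0)
  have hwF : w ∈ fullSubmodule M := h
  have himg : ∀ x, f x u = 0 → w + x + (-f x x / 2 - f w x) • u ∈ fullSubmodule M := by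
    intro x hx
    obtain ⟨E, hE, hEe⟩ := exists_root hf hM huu hx
    have h1 := fullSubmodule_invariant hwF hE
    rwa [hEe w, hwu, one_smul, mul_one] at h1
  have hneg : ∀ x, f x u = 0 → w - x + (-f x x / 2 + f w x) • u ∈ fullSubmodule M := by
    intro x hx
    have h1 := himg ((-1 : F) • x) (by rw [hf.smul_left, hx, mul_zero])
    simp only [hf.smul_left, smul_right hf] at h1
    convert h1 using 1
    match_scalars <;> ring
  have huF : u ∈ fullSubmodule M := by
    obtain ⟨x, hxx, hxu⟩ := exists_aniso hf ![u] (by omega)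
    have hxu' : f x u = 0 := by simpa using hxu 0
    have h1 := (fullSubmodule M).sub_mem ((fullSubmodule M).add_mem (himg x hxu') (hneg x hxu'))
      ((fullSubmodule M).smul_mem (2 : F) hwF)
    have e : w + x + (-f x x / 2 - f w x) • u + (w - x + (-f x x / 2 + f w x) • u) - (2 : F) • w =
        (-f x x) • u := by
      match_scalars <;> field_simp <;> ring
    rw [e] at h1
    exact ((fullSubmodule M).smul_mem_iff (neg_ne_zero.2 hxx)).1 h1
  intro y _
  have hx : f (y - f y u • w) u = 0 := by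
    rw [sub_eq_add_neg, ← neg_smul, hf.add_left, hf.smul_left, hwu]; ring
  set x := y - f y u • w
  have h1 := (fullSubmodule M).sub_mem ((fullSubmodule M).sub_mem (himg x hx) hwF)
    ((fullSubmodule M).smul_mem (-f x x / 2 - f w x) huF)
  have e : w + x + (-f x x / 2 - f w x) • u - w - (-f x x / 2 - f w x) • u = x := by module
  rw [e] at h1
  have h3 := (fullSubmodule M).add_mem h1 ((fullSubmodule M).smul_mem (f y u) hwF)
  rwa [sub_add_cancel] at h3

omit hM in
/-- Preserving the singular cone forces a similarity. -/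
lemma similarity_of_cone {g : GL ι F}
    (h : ∀ v, f v v = 0 → f ((g : Matrix ι ι F) *ᵥ v) ((g : Matrix ι ι F) *ᵥ v) = 0) :
    g ∈ similarityGroup f := by
  have h2 := hf.two
  let B : (ι → F) → (ι → F) → F := fun y z => f ((g : Matrix ι ι F) *ᵥ y) ((g : Matrix ι ι F) *ᵥ z)
  have hBa : ∀ y z x, B (y + z) x = B y x + B z x := fun y z x => by
    simp only [B, Matrix.mulVec_add, hf.add_left]
  have hBs : ∀ (c : F) y x, B (c • y) x = c * B y x := fun c y x => by
    simp only [B, Matrix.mulVec_smul, hf.smul_left]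
  have hBc : ∀ y z, B y z = B z y := fun y z => hf.symm _ _
  have hBa' : ∀ y z x, B x (y + z) = B x y + B x z := fun y z x => by rw [hBc, hBa, hBc y, hBc z]
  have hBs' : ∀ (c : F) y x, B x (c • y) = c * B x y := fun c y x => by rw [hBc, hBs, hBc]
  obtain ⟨v, w, hv, hw, hvw, hwv, -, -⟩ := exists_pair hf (Fin.elim0 : Fin 0 → (ι → F)) (by omega)
  obtain ⟨κ, hκ⟩ : ∃ κ, κ = B v w := ⟨_, rfl⟩
  -- on the complement
  have hP : ∀ p, f p v = 0 → f p w = 0 → B p p = κ * f p p ∧ B v p = f p p / 2 * B w p := by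
    intro p hpv hpw
    have key : ∀ s : F, s * s = 1 → B p p + s * (2 * B v p) - f p p * κ - s * (f p p * B w p) = 0 := fun s hs => by
      have h1 := h (v + s • p + (-(s * s * f p p) / 2) • w) (by
        simp only [hf.add_left, add_right hf, hf.smul_left, smul_right hf, hv, hw, hvw, hwv, hpv, hpw,
          hf.symm v p, hf.symm w p]
        field_simp
        ring)
      change B _ _ = 0 at h1
      simp only [hBa, hBa', hBs, hBs', show B v v = 0 from h v hv, show B w w = 0 from h w hw,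
        hBc p v, hBc w v, hBc p w, ← hκ] at h1
      rw [hs] at h1
      field_simp at h1
      refine (mul_eq_zero.1 (show (2 * 2 : F) * _ = 0 from ?_)).resolve_left (mul_ne_zero h2 h2)
      linear_combination h1 - 4 * (B p p) * hs
    have k1 := key 1 (one_mul 1)
    have k2 := key (-1) (by norm_num)
    constructor
    · exact sub_eq_zero.1 ((mul_eq_zero.1 (show (2 : F) * (B p p - κ * f p p) = 0 by
        linear_combination k1 + k2)).resolve_left h2)
    · field_simp
      exact sub_eq_zero.1 ((mul_eq_zero.1 (show (2 : F) * (B v p * 2 - f p p * B w p) = 0 by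
        linear_combination k1 - k2)).resolve_left h2)
  -- the cross terms vanish
  have hβ : ∀ p r, f p v = 0 → f p w = 0 → f r v = 0 → f r w = 0 → f r r * B w p + 2 * f p r * B w r = 0 := by
    intro p r hpv hpw hrv hrw
    have a1 := (hP (p + r) (by rw [hf.add_left, hpv, hrv, add_zero]) (by rw [hf.add_left, hpw, hrw, add_zero])).2
    have a2 := (hP (p + (-1 : F) • r) (by rw [hf.add_left, hf.smul_left, hpv, hrv]; ring)
      (by rw [hf.add_left, hf.smul_left, hpw, hrw]; ring)).2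
    have a3 := (hP p hpv hpw).2
    simp only [hBa', hBs', hf.add_left, add_right hf, hf.smul_left, smul_right hf, hf.symm r p] at a1 a2
    field_simp at a1 a2 a3
    refine (mul_eq_zero.1 (show (2 : F) * _ = 0 from ?_)).resolve_left h2
    linear_combination -a1 - a2 + 2 * a3
  obtain ⟨r1, hr1, h1u⟩ := exists_aniso_rad hf ![v, w] (Fin.elim0 : Fin 0 → (ι → F)) (fun i => i.elim0)
    (fun i => i.elim0) (fun i => i.elim0) (by
      have hle : LinearMap.ker (LinearMap.pi fun j => lin hf (![v, w] j)) ⊓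
          Submodule.span F (Set.range ![v, w]) = ⊥ := by
        rw [Submodule.eq_bot_iff]
        rintro x ⟨hx, hxS⟩
        obtain ⟨r, rfl⟩ := (Submodule.mem_span_range_iff_exists_fun F).1 hxS
        have e0 : f (∑ i, r i • ![v, w] i) v = 0 := congrFun (LinearMap.mem_ker.1 hx) 0
        have e1 : f (∑ i, r i • ![v, w] i) w = 0 := congrFun (LinearMap.mem_ker.1 hx) 1
        simp only [Fin.sum_univ_two, Matrix.cons_val_zero, Matrix.cons_val_one, hf.add_left, hf.smul_left, hv, hw,
          hvw, hwv, mul_zero, mul_one, zero_add, add_zero] at e0 e1 ⊢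
        rw [e0, e1, zero_smul, zero_smul, add_zero]
      have h1 := (LinearMap.pi fun j => lin hf (![v, w] j)).finrank_range_add_finrank_ker
      have h2 : Module.finrank F (LinearMap.range (LinearMap.pi fun j => lin hf (![v, w] j))) ≤ 2 := by
        simpa using Submodule.finrank_le (LinearMap.range (LinearMap.pi fun j => lin hf (![v, w] j)))
      rw [Module.finrank_fintype_fun_eq_card] at h1
      rw [hle, finrank_bot]; omega)
  have h1v : f r1 v = 0 := h1u.1 0
  have h1w : f r1 w = 0 := h1u.1 1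
  obtain ⟨r2, hr2, h2u, h21⟩ := exists_aniso_rad hf ![v, w] ![r1]
    (fun i j => by fin_cases i; fin_cases j <;> assumption) (fun i => by fin_cases i; exact hr1)
    (fun i i' hne => (hne (Subsingleton.elim i i')).elim) (by
      have hle : LinearMap.ker (LinearMap.pi fun j => lin hf (![v, w] j)) ⊓
          Submodule.span F (Set.range ![v, w]) = ⊥ := by
        rw [Submodule.eq_bot_iff]
        rintro x ⟨hx, hxS⟩
        obtain ⟨r, rfl⟩ := (Submodule.mem_span_range_iff_exists_fun F).1 hxS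
        have e0 : f (∑ i, r i • ![v, w] i) v = 0 := congrFun (LinearMap.mem_ker.1 hx) 0
        have e1 : f (∑ i, r i • ![v, w] i) w = 0 := congrFun (LinearMap.mem_ker.1 hx) 1
        simp only [Fin.sum_univ_two, Matrix.cons_val_zero, Matrix.cons_val_one, hf.add_left, hf.smul_left, hv, hw,
          hvw, hwv, mul_zero, mul_one, zero_add, add_zero] at e0 e1 ⊢
        rw [e0, e1, zero_smul, zero_smul, add_zero]
      have h1 := (LinearMap.pi fun j => lin hf (![v, w] j)).finrank_range_add_finrank_ker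
      have h2 : Module.finrank F (LinearMap.range (LinearMap.pi fun j => lin hf (![v, w] j))) ≤ 2 := by
        simpa using Submodule.finrank_le (LinearMap.range (LinearMap.pi fun j => lin hf (![v, w] j)))
      rw [Module.finrank_fintype_fun_eq_card] at h1
      rw [hle, finrank_bot]; omega)
  have h2v : f r2 v = 0 := h2u 0
  have h2w : f r2 w = 0 := h2u 1
  have h21' : f r2 r1 = 0 := by simpa using h21 0
  have hβ0 : ∀ p, f p v = 0 → f p w = 0 → B w p = 0 := by
    have b1 : B w r1 = 0 := by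
      have := hβ r1 r2 h1v h1w h2v h2w
      rw [hf.symm r1 r2, h21', mul_zero, zero_mul, add_zero] at this
      exact (mul_eq_zero.1 this).resolve_left hr2
    intro p hpv hpw
    have := hβ p r1 hpv hpw h1v h1w
    rw [b1, mul_zero, add_zero] at this
    exact (mul_eq_zero.1 this).resolve_left hr1
  have hdiag : ∀ y, B y y = κ * f y y := fun y => by
    obtain ⟨p, hp⟩ : ∃ p, p = y + (-f y w) • v + (-f y v) • w := ⟨_, rfl⟩
    have hpv : f p v = 0 := by rw [hp, hf.add_left, hf.add_left, hf.smul_left, hf.smul_left, hv, hwv]; ring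
    have hpw : f p w = 0 := by rw [hp, hf.add_left, hf.add_left, hf.smul_left, hf.smul_left, hw, hvw]; ring
    obtain ⟨a, ha⟩ : ∃ a, a = f y w := ⟨_, rfl⟩
    obtain ⟨b, hb⟩ : ∃ b, b = f y v := ⟨_, rfl⟩
    have e : y = p + a • v + b • w := by rw [hp, ha, hb]; module
    obtain ⟨d1, d2⟩ := hP p hpv hpw
    rw [hβ0 p hpv hpw, mul_zero] at d2
    rw [e]
    simp only [hBa, hBa', hBs, hBs', show B v v = 0 from h v hv, show B w w = 0 from h w hw, hBc p v, hBc p w,
      hBc w v, d1, d2, hβ0 p hpv hpw, ← hκ, hf.add_left, add_right hf, hf.smul_left, smul_right hf, hv, hw, hvw,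
      hwv, hpv, hpw, hf.symm v p, hf.symm w p]
    ring
  have hall : ∀ y z, B y z = κ * f y z := fun y z => by
    have h1 := hdiag (y + z)
    simp only [hBa, hBa', hf.add_left, add_right hf, hdiag y, hdiag z, hBc z y, hf.symm z y] at h1
    exact sub_eq_zero.1 ((mul_eq_zero.1 (show (2 : F) * (B y z - κ * f y z) = 0 by
      linear_combination h1)).resolve_left h2)
  refine ⟨Units.mk0 κ fun hm => ?_, hall⟩
  have hgv : (g : Matrix ι ι F) *ᵥ v ≠ 0 := fun e => by
    have e' : v = 0 := by rw [← inv_mulVec_mulVec g v, e, Matrix.mulVec_zero]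
    rw [e', zero_left hf] at hvw
    exact zero_ne_one hvw
  obtain ⟨z, hz⟩ := (hf.nondegenerate _ hgv).2
  have h1 := hall v (((g⁻¹ : GL ι F) : Matrix ι ι F) *ᵥ z)
  simp only [B, mulVec_inv_mulVec] at h1
  exact hz (by rw [h1, hm, zero_mul])

/-- An element sending a singular point to a non-singular one gives a transvection. -/
lemma exists_tv {g : GL ι F} (hg : g ∈ M) {v : ι → F} (hv : f v v = 0)
    (hgv : f ((g : Matrix ι ι F) *ᵥ v) ((g : Matrix ι ι F) *ᵥ v) ≠ 0) :
    ∃ d u, d ≠ 0 ∧ u ≠ 0 ∧ HasTv M d (axisOf f u) := by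
  have h2 := hf.two
  have L := linLeft hf
  obtain ⟨a, ha⟩ : ∃ a, a = (g : Matrix ι ι F) *ᵥ v := ⟨_, rfl⟩
  rw [← ha] at hgv
  have ha0 : a ≠ 0 := fun e => hgv (by rw [e, zero_left hf])
  by_contra hcon
  push Not at hcon
  obtain ⟨gi, hgi⟩ : ∃ gi : (ι → F) → (ι → F), gi = fun y => ((g⁻¹ : GL ι F) : Matrix ι ι F) *ᵥ y := ⟨_, rfl⟩
  have hgia : gi a = v := by rw [hgi, ha]; exact inv_mulVec_mulVec g v
  -- the axis
  obtain ⟨w, hw⟩ := exists_axis hf (axisOf f v ᵥ* ((g⁻¹ : GL ι F) : Matrix ι ι F))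
  have hφ : ∀ y, f (gi y) v = f y w := fun y => by
    rw [hgi, ← L.dot w y, hw, ← Matrix.dotProduct_mulVec, L.dot]
  have haw : f a w = 0 := by rw [← hφ, hgia, hv]
  have hv0 : v ≠ 0 := fun e => ha0 (by rw [ha, e, Matrix.mulVec_zero])
  have hw0 : w ≠ 0 := fun e => by
    obtain ⟨y, hy⟩ := (hf.nondegenerate v hv0).1
    refine hy ?_
    have h1 := hφ ((g : Matrix ι ι F) *ᵥ y)
    rw [e, zero_right hf, hgi] at h1
    simpa [inv_mulVec_mulVec] using h1
  -- an isometry fixing `a` and moving the axis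
  obtain ⟨z, hz, hza, hwz⟩ : ∃ z, f z z = 0 ∧ f z a = 0 ∧ f w z ≠ 0 := by
    by_contra hc
    push Not at hc
    obtain ⟨z, z', hz, hz', hzz', hz'z, hza, hz'a⟩ := exists_pair_one hf hn hgv
    have hperp : ∀ y, f y a = 0 → f w y = 0 := fun y hy =>
      sing_of_pair hf ![a] hz hz' hzz' hz'z (fun j => by simpa using hza) (fun j => by simpa using hz'a)
        (p := fun y => f w y = 0) (fun p q hp hq => by rw [add_right hf, hp, hq, add_zero])
        (fun p hp hpu => hc p hp (by simpa using hpu 0)) (fun j => by simpa using hy)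
    obtain ⟨y, hy⟩ := (hf.nondegenerate _ hw0).1
    refine hy ?_
    have h3 := hperp (y + (-(f y a / f a a)) • a) (by
      rw [hf.add_left, hf.smul_left, neg_mul, div_mul_cancel₀ _ hgv, add_neg_cancel])
    rw [add_right hf, smul_right hf, hf.symm w a, haw, mul_zero, add_zero] at h3
    rw [hf.symm]; exact h3
  obtain ⟨x0, hx0, hx0z, hx0a⟩ := exists_aniso_two hf hn hgv hza
  obtain ⟨k, hk, hke⟩ := exists_root hf hM hz hx0z
  have hkiso := isH_preserves hf hz hx0z hke
  have hka : (k : Matrix ι ι F) *ᵥ a = a := by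
    rw [hke a, hf.symm a z, hza, hf.symm a x0, hx0a]; module
  obtain ⟨ki, hki⟩ : ∃ ki : (ι → F) → (ι → F), ki = fun y => ((k⁻¹ : GL ι F) : Matrix ι ι F) *ᵥ y := ⟨_, rfl⟩
  have hkia : ki a = a := by rw [hki]; nth_rw 1 [← hka]; exact inv_mulVec_mulVec k a
  have hkiw : ∀ y, f (ki y) w = f y ((k : Matrix ι ι F) *ᵥ w) := fun y => by
    rw [hki, ← hkiso, mulVec_inv_mulVec]
  have hkw : (k : Matrix ι ι F) *ᵥ w ∉ Submodule.span F (Set.range ![w]) := by
    intro hm
    rw [Matrix.range_cons, Matrix.range_empty, Set.union_empty] at hm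
    obtain ⟨r, hr⟩ := Submodule.mem_span_singleton.1 hm
    rw [hke w] at hr
    have e1 := congrArg (fun y => f y z) hr
    simp only [hf.add_left, hf.smul_left, hx0z, hz, mul_zero, add_zero] at e1
    have hr1 : r = 1 := mul_right_cancel₀ hwz (by rw [e1, one_mul])
    rw [hr1, one_smul, add_assoc, left_eq_add] at hr
    have e2 := congrArg (fun y => f y x0) hr
    simp only [hf.add_left, hf.smul_left, hf.symm z x0, hx0z, mul_zero, add_zero, zero_left hf] at e2
    exact mul_ne_zero hwz hx0 e2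
  obtain ⟨y0, hy0, hy0w⟩ := exists_dual_of_fn hf ![w] hkw
  obtain ⟨x2, hx2⟩ : ∃ x2, x2 = gi y0 := ⟨_, rfl⟩
  have hx2v : f x2 v = 0 := by rw [hx2, hφ]; simpa using hy0w 0
  have hgx2 : (g : Matrix ι ι F) *ᵥ x2 = y0 := by rw [hx2, hgi]; exact mulVec_inv_mulVec g y0
  -- a vector whose image lies in both hyperplanes
  obtain ⟨x, hxv, hxk, hxout⟩ : ∃ x, f x v = 0 ∧ f ((k : Matrix ι ι F) *ᵥ ((g : Matrix ι ι F) *ᵥ x)) w = 0 ∧
      x ∉ F ∙ v := by
    let R : (ι → F) →ₗ[F] (Fin 2 → F) := LinearMap.pi ![lin hf v,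
      (lin hf w).comp ((Matrix.toLin' (k : Matrix ι ι F)).comp (Matrix.toLin' (g : Matrix ι ι F)))]
    have h1 := R.finrank_range_add_finrank_ker
    have h3 : Module.finrank F (LinearMap.range R) ≤ 2 := by
      simpa using Submodule.finrank_le (LinearMap.range R)
    rw [Module.finrank_fintype_fun_eq_card] at h1
    have h4 : Module.finrank F (F ∙ v) ≤ 1 :=
      (finrank_span_le_card ({v} : Set (ι → F))).trans (by simp)
    obtain ⟨x, hx, hxv⟩ := SetLike.not_le_iff_exists.1
      (show ¬ LinearMap.ker R ≤ F ∙ v from fun hle => by have := Submodule.finrank_mono hle; omega)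
    refine ⟨x, ?_, ?_, hxv⟩
    · have := congrFun (LinearMap.mem_ker.1 hx) 0
      simpa [R, lin] using this
    · have := congrFun (LinearMap.mem_ker.1 hx) 1
      simpa [R, lin, Matrix.toLin'_apply] using this
  obtain ⟨c, hc⟩ : ∃ c, c = (g : Matrix ι ι F) *ᵥ x := ⟨_, rfl⟩
  obtain ⟨x', hx'⟩ : ∃ x', x' = gi ((k : Matrix ι ι F) *ᵥ c) := ⟨_, rfl⟩
  have hx'v : f x' v = 0 := by rw [hx', hφ, hc]; exact hxk
  have hgen : ∀ x2, f x2 v = 0 → f (ki ((g : Matrix ι ι F) *ᵥ x2)) w ≠ 0 → f x2 x' = 0 := by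
    intro x2 hx2v hθ0
    obtain ⟨y0, hgx2⟩ : ∃ y0, (g : Matrix ι ι F) *ᵥ x2 = y0 := ⟨_, rfl⟩
    rw [hgx2] at hθ0
    have hx2 : x2 = gi y0 := by rw [← hgx2, hgi]; exact (inv_mulVec_mulVec g x2).symm
    obtain ⟨d, hd⟩ : ∃ d, d = ki y0 := ⟨_, rfl⟩
    rw [← hd] at hθ0
    obtain ⟨θ, hθ⟩ : ∃ θ, θ = f d w := ⟨_, rfl⟩
    rw [← hθ] at hθ0
    have hθx'v : f (θ • x') v = 0 := by rw [hf.smul_left, hx'v, mul_zero]
    obtain ⟨R1, hR1, hR1e⟩ := exists_root hf hM hv hxv
    obtain ⟨R2, hR2, hR2e⟩ := exists_root hf hM hv hx2v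
    obtain ⟨R3, hR3, hR3e⟩ := exists_root hf hM hv hθx'v
    obtain ⟨χ, hχ⟩ : ∃ χ : (ι → F) → F, χ = fun y => f ((k : Matrix ι ι F) *ᵥ y) w := ⟨_, rfl⟩
    obtain ⟨α, hα⟩ : ∃ α : (ι → F) → F, α = fun y => -f x x / 2 * f y w - f (gi y) x := ⟨_, rfl⟩
    obtain ⟨β, hβ⟩ : ∃ β : (ι → F) → F, β = fun y =>
        -f x2 x2 / 2 * χ y - f (gi ((k : Matrix ι ι F) *ᵥ y)) x2 := ⟨_, rfl⟩
    obtain ⟨γ, hγ⟩ : ∃ γ : (ι → F) → F, γ = fun y =>
        -f (θ • x') (θ • x') / 2 * χ y - f (gi ((k : Matrix ι ι F) *ᵥ y)) (θ • x') := ⟨_, rfl⟩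
    obtain ⟨P1, hP1, hP1e⟩ : ∃ P ∈ M, ∀ y, (P : Matrix ι ι F) *ᵥ y = y + f y w • c + α y • a := by
      refine ⟨g * R1 * g⁻¹, M.mul_mem (M.mul_mem hg hR1) (M.inv_mem hg), fun y => ?_⟩
      rw [mul_mulVec, mul_mulVec, hR1e]
      simp only [hα, hc, ha, ← hφ, hgi, Matrix.mulVec_add, Matrix.mulVec_smul, mulVec_inv_mulVec]
    have hconj : ∀ R ∈ M, ∀ x'', IsH f R v x'' x'' (-f x'' x'' / 2) →
        ∃ P ∈ M, ∀ y, (P : Matrix ι ι F) *ᵥ y = y + χ y • ki ((g : Matrix ι ι F) *ᵥ x'') +
          (-f x'' x'' / 2 * χ y - f (gi ((k : Matrix ι ι F) *ᵥ y)) x'') • a := by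
      intro R hR x'' hRe
      refine ⟨k⁻¹ * (g * R * g⁻¹) * k, M.mul_mem (M.mul_mem (M.inv_mem hk)
        (M.mul_mem (M.mul_mem hg hR) (M.inv_mem hg))) hk, fun y => ?_⟩
      rw [mul_mulVec, mul_mulVec, mul_mulVec, mul_mulVec, hRe]
      conv_rhs => rw [← hkia]
      simp only [hχ, hki, ha, ← hφ, hgi, Matrix.mulVec_add, Matrix.mulVec_smul, mulVec_inv_mulVec, inv_mulVec_mulVec]
    obtain ⟨P2, hP2, hP2e⟩ := hconj R2 hR2 x2 hR2e
    obtain ⟨P3, hP3, hP3e⟩ := hconj R3 hR3 (θ • x') hR3e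
    have hP2e' : ∀ y, (P2 : Matrix ι ι F) *ᵥ y = y + χ y • d + β y • a := fun y => by
      rw [hP2e, hgx2, hd, hβ]
    have hP3e' : ∀ y, (P3 : Matrix ι ι F) *ᵥ y = y + χ y • (θ • c) + γ y • a := fun y => by
      have e : ki ((g : Matrix ι ι F) *ᵥ (θ • x')) = θ • c := by
        simp only [hki, hx', hgi, Matrix.mulVec_smul, mulVec_inv_mulVec, inv_mulVec_mulVec]
      rw [hP3e, e, hγ]
    have hχadd : ∀ y y' (r s : F) y'', χ (y + r • y' + s • y'') = χ y + r * χ y' + s * χ y'' := fun y y' r s y'' => by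
      simp only [hχ, Matrix.mulVec_add, Matrix.mulVec_smul, hf.add_left, hf.smul_left]
    have hχa : χ a = 0 := by simp only [hχ, hka, haw]
    have hχc : χ c = 0 := by simp only [hχ, hc, hxk]
    have hχd : χ d = 0 := by
      simp only [hχ, hd, hki, mulVec_inv_mulVec]
      rw [← hgx2, ← hφ, hgi]; simp only [inv_mulVec_mulVec, hx2v]
    have hwc : f c w = 0 := by rw [← hφ, hc, hgi]; simp only [inv_mulVec_mulVec, hxv]
    have hgilin : ∀ y y' (r s : F) y'', gi (y + r • y' + s • y'') = gi y + r • gi y' + s • gi y'' := fun y y' r s y'' => by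
      simp only [hgi, Matrix.mulVec_add, Matrix.mulVec_smul]
    have hvx : f v x = 0 := by rw [hf.symm, hxv]
    have hvx2 : f v x2 = 0 := by rw [hf.symm, hx2v]
    have hvx' : f v x' = 0 := by rw [hf.symm, hx'v]
    have hαlin : ∀ y y' (r s : F) y'', α (y + r • y' + s • y'') = α y + r * α y' + s * α y'' := fun y y' r s y'' => by
      simp only [hα, hgilin, hf.add_left, hf.smul_left]; ring
    have hαa : α a = 0 := by simp only [hα, haw, hgia, hvx]; ring
    have hγlin : ∀ y y' (r s : F) y'', γ (y + r • y' + s • y'') = γ y + r * γ y' + s * γ y'' := fun y y' r s y'' => by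
      simp only [hγ, hχadd, Matrix.mulVec_add, Matrix.mulVec_smul, hgilin, hf.add_left, hf.smul_left]; ring
    have hγa : γ a = 0 := by simp only [hγ, hχa, hka, hgia, smul_right hf, hvx']; ring
    have hβlin : ∀ y y' (r s : F) y'', β (y + r • y' + s • y'') = β y + r * β y' + s * β y'' := fun y y' r s y'' => by
      simp only [hβ, hχadd, Matrix.mulVec_add, Matrix.mulVec_smul, hgilin, hf.add_left, hf.smul_left]; ring
    have hβa : β a = 0 := by simp only [hβ, hχa, hka, hgia, hvx2]; ring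
    -- the correcting element
    obtain ⟨ω, hω⟩ : ∃ ω : (ι → F) → F, ω = fun y =>
        χ y * α d - f y w * β c - (γ y + f y w * γ c + χ y * γ d) := ⟨_, rfl⟩
    have hmain : ∀ y, ((P1 * P2 : GL ι F) : Matrix ι ι F) *ᵥ y =
        ((P3 * P2 * P1 : GL ι F) : Matrix ι ι F) *ᵥ y + ω y • a := fun y => by
      simp only [mul_mulVec, hP1e, hP2e', hP3e', hω, hαlin, hβlin, hγlin, hχadd, hf.add_left, hf.smul_left, hαa,
        hβa, hγa, hχa, hχc, hχd, haw, hwc, ← hθ]
      module
    obtain ⟨K, hK⟩ : ∃ K, K = P1 * P2 * (P3 * P2 * P1)⁻¹ := ⟨_, rfl⟩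
    have hKM : K ∈ M := hK ▸ M.mul_mem (M.mul_mem hP1 hP2) (M.inv_mem (M.mul_mem (M.mul_mem hP3 hP2) hP1))
    have hPa : ((P3 * P2 * P1 : GL ι F) : Matrix ι ι F) *ᵥ a = a := by
      simp only [mul_mulVec, hP1e, hP2e', hP3e', haw, hαa, hχa, hβa, hγa, zero_smul, add_zero]
    have hK1 : K = 1 := by
      by_contra hne
      obtain ⟨φ, hφ0, hφt⟩ := hasTv_of_fix hKM ha0 (by
        rw [hK, mul_mulVec]
        conv_lhs => rw [← hPa, inv_mulVec_mulVec, hmain, hPa]
        simp [hω, hχa, haw, hγa]) (fun y => ⟨ω (((P3 * P2 * P1 : GL ι F)⁻¹ : GL ι F).val *ᵥ y), by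
        rw [hK, mul_mulVec, hmain, mulVec_inv_mulVec]⟩) hne
      obtain ⟨u, hu⟩ := exists_axis hf φ
      exact hcon a u ha0 (fun e => hφ0 (by rw [← hu, e]; exact funext fun i => zero_right hf _)) (hu ▸ hφt)
    have hω0 : ∀ y, ω y = 0 := fun y => by
      have h1 := hmain y
      rw [show P1 * P2 = P3 * P2 * P1 from eq_of_mul_inv_eq_one (hK ▸ hK1), left_eq_add] at h1
      exact (smul_eq_zero.1 h1).resolve_right ha0
    have e1 := hω0 c
    have e2 := hω0 d
    simp only [hω, hχc, hwc, hχd, ← hθ, zero_mul, add_zero, zero_sub, sub_zero, zero_add] at e1 e2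
    have hβc : β c = -f x' x2 := by simp only [hβ, hχc, ← hx']; ring
    have hγd : γ d = -(θ * f x2 x') := by
      rw [hγ]; simp only [hχd]; simp only [smul_right hf, hd, hki, mulVec_inv_mulVec, ← hx2]; ring
    show f x2 x' = 0
    refine (mul_eq_zero.1 (show (2 * θ) * f x2 x' = 0 from ?_)).resolve_left (mul_ne_zero h2 hθ0)
    rw [hβc, hγd, hf.symm x' x2] at e2
    linear_combination e2 - θ * e1
  have hθ20 : f (ki ((g : Matrix ι ι F) *ᵥ x2)) w ≠ 0 := by
    rw [hgx2, hkiw, hf.symm, hy0]; exact one_ne_zero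
  have hall : ∀ p, f p v = 0 → f p x' = 0 := fun p hp => by
    by_cases hθp : f (ki ((g : Matrix ι ι F) *ᵥ p)) w = 0
    · have h1 := hgen (p + x2) (by rw [hf.add_left, hp, hx2v, add_zero]) (by
        rw [hki] at hθp hθ20 ⊢
        simp only [Matrix.mulVec_add, hf.add_left] at hθp hθ20 ⊢
        rwa [hθp, zero_add])
      rw [hf.add_left, hgen x2 hx2v hθ20, add_zero] at h1
      exact h1
    · exact hgen p hp hθp
  refine hxout ?_
  have hx'mem : x' ∈ Submodule.span F (Set.range ![v]) := by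
    by_contra hout
    obtain ⟨p, hp, hpv⟩ := exists_dual_of_fn hf ![v] hout
    rw [hf.symm, hall p (by simpa using hpv 0)] at hp
    exact zero_ne_one hp
  rw [Matrix.range_cons, Matrix.range_empty, Set.union_empty] at hx'mem
  obtain ⟨r, hr⟩ := Submodule.mem_span_singleton.1 hx'mem
  refine Submodule.mem_span_singleton.2 ⟨r, ?_⟩
  have h1 := congrArg (fun y => ((k⁻¹ : GL ι F) : Matrix ι ι F) *ᵥ ((g : Matrix ι ι F) *ᵥ y)) hr
  rw [hx', hgi] at h1
  simp only [mulVec_inv_mulVec, inv_mulVec_mulVec, Matrix.mulVec_smul, ← ha] at h1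
  rw [show ((k⁻¹ : GL ι F) : Matrix ι ι F) *ᵥ a = a by rw [← congrFun hki a]; exact hkia, hc, ha,
    ← Matrix.mulVec_smul] at h1
  have h3 := congrArg (fun y => ((g⁻¹ : GL ι F) : Matrix ι ι F) *ᵥ y) h1
  simpa only [inv_mulVec_mulVec] using h3

omit hM in
theorem proper : ¬ specialLinear ι F ≤ similarityGroup f := by
  intro hle
  have L := linLeft hf
  obtain ⟨a, ha, -⟩ := exists_aniso hf (Fin.elim0 : Fin 0 → (ι → F)) (by omega)
  obtain ⟨v, hv, hv'⟩ := exists_aniso hf ![a] (by omega)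
  have hva : f v a = 0 := by simpa using hv' 0
  have hav : f a v = 0 := by rw [hf.symm, hva]
  have hφ : axisOf f v ⬝ᵥ a = 0 := by rw [L.dot, hav]
  obtain ⟨e, he⟩ := hle (tvec_mem_specialLinear a (axisOf f v) hφ)
  have h2 := he v a
  simp only [tvec_mulVec, L.dot, hav, zero_smul, add_zero] at h2
  rw [hf.add_left, hf.smul_left, hva, zero_add, mul_zero] at h2
  exact mul_ne_zero hv ha h2

/-- Overgroups of the similarity group not inside it contain SL. -/
theorem key (hMX : ¬ M ≤ similarityGroup f) : specialLinear ι F ≤ M := by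
  obtain ⟨g, hg, hgX⟩ := SetLike.not_le_iff_exists.1 hMX
  obtain ⟨v, hv, hgv⟩ : ∃ v, f v v = 0 ∧ f ((g : Matrix ι ι F) *ᵥ v) ((g : Matrix ι ι F) *ᵥ v) ≠ 0 := by
    by_contra hc
    push Not at hc
    exact hgX (similarity_of_cone hf hn hc)
  obtain ⟨d, u, hd, hu, h⟩ := exists_tv hf hM hn hg hv hgv
  obtain ⟨v', hv', hv'0, hl⟩ := exists_line hf hM hn hu hd h
  exact specialLinear_le_of_fullAt hf hM hn hv' hv'0 (fullAt_of_line hf hM hn hv' hv'0 hl)

end CfsgLib.Geo.Orth4
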