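import Cfsg.Agent.Elusive.PauliFrame
import Cfsg.Agent.Aschbacher.General.Clifford

/-!
An absolutely irreducible symplectic-type subgroup of `GL₄` with centre of order four has order 64.
-/

set_option autoImplicit false
set_option linter.unusedSectionVars false

namespace CfsgLib.Geo.SLFour

open Cfsg.Geo

variable {F : Type*} [Field F] [Fintype F]

theorem card_symplecticType (h2 : (2 : F) ≠ 0) {R : Subgroup (GL (Fin 4) F)}
    (hRs : IsSymplecticTypeGroup 2 R) (hRi : ActsAbsolutelyIrreducibly (matrixSet R))
    (hZ4 : Nat.card (Subgroup.center R) = 4) : Nat.card R = 2 ^ 6 := by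
  classical
  obtain ⟨val, hvald⟩ : ∃ val : R → Matrix (Fin 4) (Fin 4) F,
      ∀ x, val x = ((x : GL (Fin 4) F) : Matrix (Fin 4) (Fin 4) F) := ⟨_, fun _ => rfl⟩
  have hval : ∀ x y : R, val (x * y) = val x * val y := fun x y => by simp [hvald]
  have hval1 : val 1 = 1 := by simp [hvald]
  have h4 : ∀ x : R, x ^ 4 = 1 := fun x => by
    have h := Monoid.pow_exponent_eq_one x
    rwa [hRs.exponent_eq] at h
  have hcomm := CfsgLib.Symp.comm_central_aux (Nat.card R) R rfl hRs.pGroup h4 hRs.cyclic_of_characteristic
  have hM : ∀ M : Matrix (Fin 4) (Fin 4) F, (∀ g : R, M * val g = val g * M) → ∃ c : F, M = c • 1 := fun M h =>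
    hRi.2 M (by rintro _ ⟨g, hg, rfl⟩; simpa [hvald] using h ⟨g, hg⟩)
  have hcent : ∀ z : R, z ∈ Subgroup.center R → ∃ c : F, val z = c • 1 := fun z hz =>
    hM _ fun g => by rw [← hval, ← hval, Subgroup.mem_center_iff.1 hz g]
  have hcentre : ∀ (z : R) (c : F), val z = c • 1 → z ∈ Subgroup.center R := fun z c hc =>
    Subgroup.mem_center_iff.2 fun g => Subtype.ext (Units.ext (by
      rw [← hvald, ← hvald, hval, hval]
      rw [hc, mul_smul_comm, mul_one, smul_mul_assoc, one_mul]))
  have hpm : ∀ x y : R, val x * val y = val y * val x ∨ val x * val y = -(val y * val x) := fun x y => by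
    obtain ⟨hz, hzz⟩ := hcomm x y
    obtain ⟨c, hc⟩ := hcent _ hz
    have hc2 : c * c = 1 := by
      have h := congrArg val hzz
      rw [hval, hc, smul_mul_smul_comm, mul_one, hval1] at h
      simpa using congrFun (congrFun h 0) 0
    have e : val x * val y = c • (val y * val x) := by
      rw [← one_mul (val y * val x), ← smul_mul_assoc, ← hc, ← hval, ← hval, ← hval]
      congr 1
      group
    rcases mul_self_eq_one_iff.1 hc2 with rfl | rfl
    · exact Or.inl (by rw [e, one_smul])
    · exact Or.inr (by rw [e, neg_one_smul])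
  have htr : ∀ x : R, x ∉ Subgroup.center R → Matrix.trace (val x) = 0 := fun x hx => by
    obtain ⟨y, hy⟩ : ∃ y : R, val x * val y = -(val y * val x) := by
      by_contra hno
      obtain ⟨c, hc⟩ := hM (val x) fun g => (hpm x g).resolve_right fun e => hno ⟨g, e⟩
      exact hx (hcentre x c hc)
    have h1 : val y⁻¹ * (val x * val y) = -val x := by
      rw [hy, mul_neg, ← mul_assoc, ← hval, inv_mul_cancel, hval1, one_mul]
    have h2' := congrArg Matrix.trace h1
    rw [Matrix.trace_mul_comm, mul_assoc, ← hval y, mul_inv_cancel, hval1, mul_one, Matrix.trace_neg] at h2'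
    exact (mul_eq_zero.1 (show (2 : F) * Matrix.trace (val x) = 0 by linear_combination h2')).resolve_left h2
  let rep : R ⧸ Subgroup.center R → Matrix (Fin 4) (Fin 4) F := fun q => val q.out
  letI := Fintype.ofFinite (R ⧸ Subgroup.center R)
  have hli : LinearIndependent F rep := by
    rw [Fintype.linearIndependent_iff]
    intro a ha q
    have h := congrArg (fun M => Matrix.trace (val q.out⁻¹ * M)) ha
    simp only [Matrix.mul_sum, Matrix.trace_sum, mul_zero, Matrix.trace_zero, mul_smul_comm, Matrix.trace_smul,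
      rep, ← hval] at h
    rw [Finset.sum_eq_single q (fun q' _ hne => by
      rw [htr _ fun hc => hne ?_, smul_zero]
      rw [← QuotientGroup.out_eq' q', ← QuotientGroup.out_eq' q]
      exact (QuotientGroup.eq.2 hc).symm) (by simp), inv_mul_cancel, hval1, Matrix.trace_one, Fintype.card_fin,
      smul_eq_mul, mul_eq_zero] at h
    refine h.resolve_right ?_
    rw [show ((4 : ℕ) : F) = 2 * 2 by norm_num]
    exact mul_ne_zero h2 h2
  have hspan : Submodule.span F (Set.range rep) = ⊤ := by
    rw [eq_top_iff]
    intro X _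
    have hX := CfsgLib.Aschbacher.mem_adjoin_of_absIrred hRi X
    rw [← Subalgebra.mem_toSubmodule, Algebra.adjoin_eq_span] at hX
    refine Submodule.span_le.mpr ?_ hX
    intro Y hY
    obtain ⟨a, rfl⟩ : ∃ a : R, val a = Y := by
      induction hY using Submonoid.closure_induction with
      | mem x hx =>
        obtain ⟨g, hg, rfl⟩ := hx
        exact ⟨⟨g, hg⟩, hvald _⟩
      | one => exact ⟨1, hval1⟩
      | mul x y _ _ hx hy =>
        obtain ⟨a, rfl⟩ := hx
        obtain ⟨b, rfl⟩ := hy
        exact ⟨a * b, hval a b⟩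
    set q : R ⧸ Subgroup.center R := QuotientGroup.mk a with hq
    obtain ⟨c, hc⟩ := hcent _ (QuotientGroup.eq.mp (QuotientGroup.out_eq' q))
    have e1 : val a = c • rep q := by
      rw [show val a = val (q.out * (q.out⁻¹ * a)) by rw [mul_inv_cancel_left], hval, hc, mul_smul_comm, mul_one]
    rw [e1]
    exact Submodule.smul_mem _ _ (Submodule.subset_span ⟨q, rfl⟩)
  have hquot : Nat.card (R ⧸ Subgroup.center R) = 16 := by
    have := finrank_span_eq_card hli
    rw [hspan, finrank_top, Module.finrank_matrix, Module.finrank_self, mul_one, Fintype.card_fin] at this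
    rw [Nat.card_eq_fintype_card, ← this]
  rw [Subgroup.card_eq_card_quotient_mul_card_subgroup (Subgroup.center R), hquot, hZ4]; rfl

end CfsgLib.Geo.SLFour
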