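import Cfsg.Agent.Geo.SLFour.Frame
import Cfsg.Agent.Geo.SLFour.Order
import Cfsg.Agent.Geo.SubfieldOvergroup

/-!
The normaliser of a symplectic-type group of order 64 is maximal in `SL₄(p)`.
-/

set_option autoImplicit false
set_option linter.unusedSectionVars false

namespace CfsgLib.Geo.SLFour

open Matrix CfsgLib.Quad CfsgLib.Forms CfsgLib.Elusive.Pauli

variable {F : Type*} [Field F] [Fintype F] [DecidableEq F]

theorem normalizer_map_conj {K : Type*} [Field K] (R : Subgroup (GL (Fin 4) K)) (P : GL (Fin 4) K) :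
    Cfsg.Geo.subgroupNormalizer R =
      (Cfsg.Geo.subgroupNormalizer (R.map (MulAut.conj P⁻¹).toMonoidHom)).map (MulAut.conj P).toMonoidHom := by
  have hrm : (R.map (MulAut.conj P⁻¹).toMonoidHom).map (MulAut.conj P).toMonoidHom = R := by
    rw [Subgroup.map_map]
    convert Subgroup.map_id R
    ext x
    simp [mul_assoc]
  unfold Cfsg.Geo.subgroupNormalizer
  rw [Subgroup.map_equiv_normalizer_eq, hrm]

/-- A group with the properties `Sym` consists of elements of determinant one and its normaliser is maximal. -/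
theorem pauli_maximal_of_sym {p : ℕ} (hp : p.Prime) (hcard : Fintype.card F = p) (h4 : p % 4 = 1)
    {R : Subgroup (GL (Fin 4) F)} {i : F} (hS₀ : Sym R i) :
    R ≤ Cfsg.Geo.specialLinear (Fin 4) F ∧
    Cfsg.Geo.IsMaximalIn (Cfsg.Geo.specialLinear (Fin 4) F)
      (Cfsg.Geo.subgroupNormalizer R ⊓ Cfsg.Geo.specialLinear (Fin 4) F) := by
  classical
  haveI : Fact p.Prime := ⟨hp⟩
  haveI : CharP F p := charP_of_card_eq_prime hcard
  have h2 : (2 : F) ≠ 0 := hS₀.two
  obtain ⟨P, hS⟩ := exists_std hS₀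
  set R' := R.map (MulAut.conj P⁻¹).toMonoidHom
  set G := Cfsg.Geo.specialLinear (Fin 4) F
  have hdet : ∀ g ∈ G, (g : Matrix (Fin 4) (Fin 4) F).det = 1 := fun g hg =>
    congrArg Units.val (MonoidHom.mem_ker.1 hg)
  have hmemG : ∀ g : GL (Fin 4) F, (g : Matrix (Fin 4) (Fin 4) F).det = 1 → g ∈ G := fun g hg =>
    MonoidHom.mem_ker.2 (Units.ext hg)
  have hinj := theta_injective (F := F) hS.two hS.sq_i
  let e : (Fin 6 → F) ≃ₗ[F] (Fin 3 ⊕ Fin 3 → F) :=
    (theta (F := F) i).linearEquivOfInjective hinj (by simp)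
  have hrep : Rep F i G :=
    { two := hS.two
      sq_i := hS.sq_i
      det := hdet
      stab := fun g _ x => by
        refine ⟨e.symm (kleinInv ((g : Matrix (Fin 4) (Fin 4) F) * mat i x * (g : Matrix (Fin 4) (Fin 4) F)ᵀ)), ?_⟩
        show klein (e (e.symm _)) = _
        rw [e.apply_symm_apply, mat_apply, klein_congr_mem] }
  have hRG : R' ≤ G := by
    intro g hg
    obtain ⟨c, hc, a, b, d, k, hgM⟩ := hS.gen g hg
    refine hmemG g ?_
    rw [hgM, Matrix.det_smul, Fintype.card_fin, hc, one_mul, Matrix.det_mul, Matrix.det_mul, Matrix.det_mul,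
      Matrix.det_pow, Matrix.det_pow, Matrix.det_pow, Matrix.det_pow]
    have d1 : (A₁ F).det = 1 := by simp [A₁, Matrix.det_diagonal, Fin.prod_univ_four]
    have d2 : (A₂ F).det = 1 := by simp [A₂, Matrix.det_diagonal, Fin.prod_univ_four]
    have d3 : (B₁ F).det = 1 := by
      simp [B₁, Matrix.det_succ_row_zero, Fin.sum_univ_succ, Fin.succAbove]
    have d4 : (B₂ F).det = 1 := by
      simp [B₂, Matrix.det_succ_row_zero, Fin.sum_univ_succ, Fin.succAbove]
    rw [d1, d2, d3, d4]
    simp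
  obtain ⟨n, hn⟩ : ∃ n : GL (Fin 4) F, (n : Matrix (Fin 4) (Fin 4) F) = -1 := ⟨-1, by simp⟩
  have hnG : n ∈ G := hmemG n (by rw [hn, Matrix.det_neg, Matrix.det_one, Fintype.card_fin]; norm_num)
  let eG : Matrix.SpecialLinearGroup (Fin 4) F ≃* G := CfsgLib.Linear.slEquivDetKer
  have hperf : commutator G = ⊤ := by
    rw [commutator_def, ← Subgroup.map_top_of_surjective eG.toMonoidHom eG.surjective, ← Subgroup.map_commutator,
      ← commutator_def, CfsgLib.Linear.commutator_SL_eq_top (Or.inl (by simp))]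
  haveI : Finite G := Finite.of_equiv _ eG.toEquiv
  have hcount : 2 * Nat.card G = Nat.card (OFrame.O F 6) := by
    rw [Nat.card_congr (oGroupCongr (Q := OFrame.Q0 F 6) (Q' := plusQ (F := F) 3) e fun x => by
      show plusQ (F := F) 3 (theta i x) = _
      rw [plusQ_theta hS.sq_i]; simp).toEquiv, ← Nat.card_congr eG.toEquiv]
    have hq1 : 1 ≤ Fintype.card F := Fintype.card_pos
    have hSL := CfsgLib.Linear.card_SL_mul (F := F) rfl 4 (by norm_num)
    have hO := card_oGroup_plus (F := F) (q := Fintype.card F) Nat.card_eq_fintype_card 2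
    set q := Fintype.card F with hqdef
    refine Nat.eq_of_mul_eq_mul_left (show 0 < q - 1 by
      have : 1 < q := Fintype.one_lt_card
      omega) ?_
    rw [mul_left_comm, hSL]
    simp only [Fin.prod_univ_four, Fin.val_zero, Fin.val_one, Fin.val_two,
      show ((3 : Fin 4) : ℕ) = 3 from rfl]
    have h0' : q ^ 0 ≤ q ^ 4 := Nat.pow_le_pow_right hq1 (by norm_num)
    have h1' : q ^ 1 ≤ q ^ 4 := Nat.pow_le_pow_right hq1 (by norm_num)
    have h2' : q ^ 2 ≤ q ^ 4 := Nat.pow_le_pow_right hq1 (by norm_num)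
    have h3' : q ^ 3 ≤ q ^ 4 := Nat.pow_le_pow_right hq1 (by norm_num)
    apply Nat.cast_injective (R := ℤ)
    push_cast [h0', h1', h2', h3', hq1]
    rw [hO, Finset.prod_range_succ, Finset.prod_range_one]
    push_cast
    ring
  have hmax := hrep.normalizer_maximal p (by rw [Nat.card_eq_fintype_card, hcard]) h2
    (hrep.range_eq h2 (sqGen_of_perfect hperf) hnG hn hcount) hS hRG
  refine ⟨fun g hg => ?_, ?_⟩
  · have h := hRG (Subgroup.mem_map_of_mem (MulAut.conj P⁻¹).toMonoidHom hg)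
    exact MonoidHom.mem_ker.2 (by simpa [G, Cfsg.Geo.specialLinear, MonoidHom.mem_ker] using h)
  · rw [normalizer_map_conj R P]
    exact CfsgLib.Geo.isMaximalIn_conj P (CfsgLib.Geo.specialLinear_map_conj P) hmax


/-- The normaliser is maximal. -/
theorem linear_pauli_maximal {p : ℕ} (hp : p.Prime) (hcard : Fintype.card F = p) (h4 : p % 4 = 1)
    {R : Subgroup (GL (Fin 4) F)} (hR : Cfsg.Geo.IsLinearSymplecticTypeData 2 R) :
    Cfsg.Geo.IsMaximalIn (Cfsg.Geo.specialLinear (Fin 4) F)
      (Cfsg.Geo.subgroupNormalizer R ⊓ Cfsg.Geo.specialLinear (Fin 4) F) := by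
  classical
  haveI : Fact p.Prime := ⟨hp⟩
  haveI : CharP F p := charP_of_card_eq_prime hcard
  have h2 : (2 : F) ≠ 0 := by
    intro e
    have hch : ringChar F = 2 := CharP.ringChar_of_prime_eq_zero Nat.prime_two (by exact_mod_cast e)
    have := FiniteField.even_card_iff_char_two.1 hch
    omega
  have hZ4 : Nat.card (Subgroup.center R) = 4 := by
    obtain ⟨_, _, -, -, hcases⟩ := hR.field
    rcases hcases with ⟨ho, -⟩ | ⟨-, -, h, -⟩ | ⟨-, -, h, -⟩
    · exact absurd ho (by decide)
    · exact h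
    · simp at h
  obtain ⟨i, hS₀⟩ := sym_of_data R hR (card_symplecticType h2 hR.symplecticType hR.absIrred hZ4) hcard h4
  exact (pauli_maximal_of_sym hp hcard h4 hS₀).2

end CfsgLib.Geo.SLFour
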