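import Cfsg.Agent.Geo.SLFour.Theta
import Cfsg.Agent.Geo.FrameSix.Key
import Cfsg.Agent.Elusive.PauliElements
import Cfsg.Agent.Geo.Basic

/-!
The normaliser of a symplectic-type group of order 64 in standard form is maximal in a group mapping
onto the commutator subgroup of six-dimensional orthogonal coordinates.
-/

set_option autoImplicit false
set_option linter.unusedSectionVars false

namespace CfsgLib.Geo.SLFour

open Matrix CfsgLib.Quad CfsgLib.Forms CfsgLib.Elusive.Pauli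

variable {F K : Type*} [Field F] [Finite F] [DecidableEq F] [Field K] [Algebra F K] {i : K}
  {G : Subgroup (GL (Fin 4) K)}

/-- A group preserving the span of the six matrices. -/
structure Rep (F : Type*) [Field F] [Algebra F K] (i : K) (G : Subgroup (GL (Fin 4) K)) : Prop where
  two : (2 : K) ≠ 0
  sq_i : i * i = -1
  det : ∀ g ∈ G, (g : Matrix (Fin 4) (Fin 4) K).det = 1
  stab : ∀ g ∈ G, ∀ x : Fin 6 → F, ∃ y : Fin 6 → F,
    mat i y = (g : Matrix (Fin 4) (Fin 4) K) * mat i x * (g : Matrix (Fin 4) (Fin 4) K)ᵀ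

/-- The matrices of the elements. -/
def valHom (G : Subgroup (GL (Fin 4) K)) : G →* Matrix (Fin 4) (Fin 4) K :=
  (Units.coeHom _).comp G.subtype

theorem Rep.act_stab (h : Rep F i G) : ∀ (g : G) (x : Fin 6 → F),
    ∃ y, mat (F := F) i y = congrAct (F := F) (valHom G) (valHom G) g (mat i x) :=
  fun g x => h.stab g g.2 x

theorem Rep.act_form (h : Rep F i G) : ∀ (g : G) (x y : Fin 6 → F),
    mat i y = congrAct (F := F) (valHom G) (valHom G) g (mat i x) → OFrame.Q0 F 6 y = OFrame.Q0 F 6 x :=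
  fun g x y e => (algebraMap F K).injective (by
    rw [← plusQ_theta h.sq_i, ← plusQ_theta h.sq_i]
    exact plusQ_of_klein_eq (h.det g g.2) e)

/-- The homomorphism to the orthogonal group. -/
noncomputable def Rep.phi (h : Rep F i G) : G →* OFrame.O F 6 :=
  repO (congrAct (F := F) (valHom G) (valHom G)) (mat i) (mat_injective h.two h.sq_i) h.act_stab h.act_form

theorem Rep.phi_spec (h : Rep F i G) (g : G) (x : Fin 6 → F) :
    mat i ((h.phi g).1 x) =
      ((g : GL (Fin 4) K) : Matrix (Fin 4) (Fin 4) K) * mat i x * ((g : GL (Fin 4) K) : Matrix (Fin 4) (Fin 4) K)ᵀ :=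
  (h.act_stab g x).choose_spec

theorem Rep.phi_eq (h : Rep F i G) (g : G) {o : OFrame.O F 6}
    (ho : ∀ x, mat i (o.1 x) =
      ((g : GL (Fin 4) K) : Matrix (Fin 4) (Fin 4) K) * mat i x * ((g : GL (Fin 4) K) : Matrix (Fin 4) (Fin 4) K)ᵀ) :
    h.phi g = o :=
  Subtype.ext (LinearEquiv.ext fun x => mat_injective h.two h.sq_i (by rw [h.phi_spec, ho]))

theorem Rep.phi_eq_one_iff (h : Rep F i G) (g : G) : h.phi g = 1 ↔
    ((g : GL (Fin 4) K) : Matrix (Fin 4) (Fin 4) K) = 1 ∨ ((g : GL (Fin 4) K) : Matrix (Fin 4) (Fin 4) K) = -1 := by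
  constructor
  · intro hg
    refine eq_pm_of_mat_fixed (F := F) h.two h.sq_i fun x => ?_
    rw [← h.phi_spec, hg, OFrame.one_apply]
  · intro hg
    refine h.phi_eq g fun x => ?_
    rw [OFrame.one_apply, mat_apply, congr_klein_of_pm hg]

/-- Counting gives the range. -/
theorem Rep.range_eq (h : Rep F i G) [Finite G] (h2 : (2 : F) ≠ 0) (hsq : SqGen G)
    {n : GL (Fin 4) K} (hn : n ∈ G) (hn' : (n : Matrix (Fin 4) (Fin 4) K) = -1)
    (hcard : 2 * Nat.card G = Nat.card (OFrame.O F 6)) :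
    h.phi.range = commutator (OFrame.O F 6) := by
  refine range_eq_commutator_odd (OFrame.nondeg h2) h2 (by simp) h.phi hsq ?_
  have hne : (n : Matrix (Fin 4) (Fin 4) K) ≠ 1 := by
    rw [hn']
    intro e
    have := congrFun (congrFun e 0) 0
    simp at this
    exact h.two (by linear_combination -this)
  have hk : Nat.card h.phi.ker = 2 := by
    refine Nat.card_eq_two_iff.mpr ⟨1, ⟨⟨n, hn⟩, (h.phi_eq_one_iff _).2 (Or.inr hn')⟩, ?_, ?_⟩
    · intro e
      exact hne (congrArg (fun g : h.phi.ker => ((g.1 : GL (Fin 4) K) : Matrix (Fin 4) (Fin 4) K)) e).symm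
    · refine Set.eq_univ_iff_forall.mpr fun g => ?_
      rcases (h.phi_eq_one_iff g.1).1 g.2 with e | e
      · exact Or.inl (Subtype.ext (Subtype.ext (Units.ext e)))
      · exact Or.inr (Subtype.ext (Subtype.ext (Units.ext (e.trans hn'.symm))))
  rw [hk, ← hcard]; ring

/-- The sign change of the coordinates in a set. -/
def IsNeg (S : Finset (Fin 6)) (o : OFrame.O F 6) : Prop := ∀ x, o.1 x = fl S x

/-- Diagonal on the frame. -/
def Diag (o : OFrame.O F 6) : Prop := ∀ j, ∃ s : F, o.1 (OFrame.e j) = s • OFrame.e j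

theorem Diag.mul {o o' : OFrame.O F 6} (h : Diag o) (h' : Diag o') : Diag (o * o') := fun j => by
  obtain ⟨s, hs⟩ := h j
  obtain ⟨t, ht⟩ := h' j
  exact ⟨t * s, by rw [OFrame.mul_apply, ht, map_smul, hs, smul_smul]⟩

theorem diag_one : Diag (1 : OFrame.O F 6) := fun j => ⟨1, by rw [one_smul, OFrame.one_apply]⟩

theorem IsNeg.diag {S : Finset (Fin 6)} {o : OFrame.O F 6} (h : IsNeg S o) : Diag o := fun j => by
  refine ⟨if j ∈ S then -1 else 1, funext fun t => ?_⟩
  rw [h, Pi.smul_apply, smul_eq_mul, fl, OFrame.e_apply]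
  by_cases htj : t = j
  · subst htj; simp
  · simp [htj]

theorem IsNeg.eq_eps {S : Finset (Fin 6)} {o : OFrame.O F 6} {a b : Fin 6} (h : IsNeg S o)
    (hab : a ≠ b) (hS : ∀ t, t ∈ S ↔ t = a ∨ t = b) : o = OFrame.eps a b :=
  Subtype.ext (LinearEquiv.ext fun x => funext fun t => by
    rw [h, OFrame.eps_coord hab, fl]
    simp only [hS t])

theorem IsNeg.mul_univ {S : Finset (Fin 6)} {o o' : OFrame.O F 6} (h : IsNeg Finset.univ o')
    (h' : IsNeg S o) : IsNeg Sᶜ (o' * o) := fun x => by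
  funext t
  rw [OFrame.mul_apply, h, h', fl, fl, fl]
  by_cases ht : t ∈ S <;> simp [ht]

variable {R : Subgroup (GL (Fin 4) K)}

theorem eps_trans {a b c : Fin 6} (hab : a ≠ b) (hbc : b ≠ c) (hac : a ≠ c) :
    OFrame.eps (F := F) a b * OFrame.eps b c = OFrame.eps a c := by
  simp only [OFrame.eps]
  rw [show OFrame.R (OFrame.e (F := F) a) * OFrame.R (OFrame.e b) * (OFrame.R (OFrame.e b) * OFrame.R (OFrame.e c)) =
    OFrame.R (OFrame.e a) * (OFrame.R (OFrame.e b) * OFrame.R (OFrame.e b)) * OFrame.R (OFrame.e c) by group,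
    OFrame.R_sq, mul_one]

theorem eps_symm {a b : Fin 6} (hab : a ≠ b) : OFrame.eps (F := F) a b = OFrame.eps b a :=
  OFrame.R_comm (OFrame.ee_ne hab.symm)

/-- The normaliser is maximal. -/
theorem Rep.normalizer_maximal (h : Rep F i G) (p : ℕ) [Fact p.Prime] [CharP F p] (hF : Nat.card F = p)
    (h2 : (2 : F) ≠ 0) (hrange : h.phi.range = commutator (OFrame.O F 6)) (hS : Std R i) (hRG : R ≤ G) :
    Cfsg.Geo.IsMaximalIn G (Cfsg.Geo.subgroupNormalizer R ⊓ G) := by
  classical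
  set φ := h.phi with hφ
  set RI : Subgroup (OFrame.O F 6) := (R.subgroupOf G).map φ with hRI
  have hgenfl : ∀ {M : Matrix (Fin 4) (Fin 4) K} {S : Finset (Fin 6)}, InR R M →
      (∀ x : Fin 6 → F, M * mat i x * Mᵀ = mat i (fl S x)) →
      ∃ g : G, (g : GL (Fin 4) K) ∈ R ∧ ((g : GL (Fin 4) K) : Matrix (Fin 4) (Fin 4) K) = M ∧ IsNeg S (φ g) := by
    rintro M S ⟨a, ha, rfl⟩ hM
    refine ⟨⟨a, hRG ha⟩, ha, rfl, fun x => mat_injective h.two h.sq_i ?_⟩
    rw [hφ, h.phi_spec, hM]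
  obtain ⟨a1, ha1, hv1, hn1⟩ := hgenfl hS.a₁ congr_A₁
  obtain ⟨a2, ha2, hv2, hn2⟩ := hgenfl hS.a₂ congr_A₂
  obtain ⟨b1, hb1, hw1, hm1⟩ := hgenfl hS.b₁ congr_B₁
  obtain ⟨b2, hb2, hw2, hm2⟩ := hgenfl hS.b₂ congr_B₂
  obtain ⟨s, hs, hvs, hns⟩ := hgenfl (hS.smul_mem InR.one hS.i_four) (congr_scalar hS.sq_i)
  -- all pairs of sign changes come from the group
  have hmem : ∀ g : G, (g : GL (Fin 4) K) ∈ R → φ g ∈ RI := fun g hg =>
    Subgroup.mem_map_of_mem φ (Subgroup.mem_subgroupOf.2 hg)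
  have hbase : ∀ {g : G} {S : Finset (Fin 6)} {a b : Fin 6}, (g : GL (Fin 4) K) ∈ R → IsNeg S (φ g) → a ≠ b →
      (∀ t, t ∈ Sᶜ ↔ t = a ∨ t = b) → φ (s * g) = OFrame.eps a b := fun {g S a b} _ hn hab hS' => by
    rw [map_mul]; exact (hns.mul_univ hn).eq_eps hab hS'
  have e01 : φ (s * a1) = OFrame.eps 0 1 := hbase ha1 hn1 (by decide) (by decide)
  have e23 : φ (s * a2) = OFrame.eps 2 3 := hbase ha2 hn2 (by decide) (by decide)
  have e05 : φ (s * b1) = OFrame.eps 0 5 := hbase hb1 hm1 (by decide) (by decide)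
  have e34 : φ (s * b2) = OFrame.eps 3 4 := hbase hb2 hm2 (by decide) (by decide)
  have e45 : φ (s * (a1 * a2)) = OFrame.eps 4 5 := by
    refine hbase (mul_mem ha1 ha2) (S := {0, 1, 2, 3}) (fun x => ?_) (by decide) (by decide)
    funext t
    rw [map_mul, OFrame.mul_apply, hn1, hn2]
    fin_cases t <;> simp [fl]
  have hone : ∀ {g : G} {a b : Fin 6}, (g : GL (Fin 4) K) ∈ R → φ (s * g) = OFrame.eps a b →
      OFrame.eps a b ∈ RI := fun {g a b} hg he => he ▸ hmem _ (mul_mem hs hg)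
  have hto : ∀ a : Fin 6, a ≠ 5 → OFrame.eps a 5 ∈ RI := by
    intro a ha
    have h05 : OFrame.eps 0 5 ∈ RI := hone hb1 e05
    have h45 : OFrame.eps 4 5 ∈ RI := hone (mul_mem ha1 ha2) e45
    have h15 : OFrame.eps 1 5 ∈ RI := by
      rw [← eps_trans (b := 0) (by decide) (by decide) (by decide), eps_symm (show (1 : Fin 6) ≠ 0 by decide)]
      exact mul_mem (hone ha1 e01) h05
    have h35 : OFrame.eps 3 5 ∈ RI := by
      rw [← eps_trans (b := 4) (by decide) (by decide) (by decide)]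
      exact mul_mem (hone hb2 e34) h45
    have h25 : OFrame.eps 2 5 ∈ RI := by
      rw [← eps_trans (b := 3) (by decide) (by decide) (by decide)]
      exact mul_mem (hone ha2 e23) h35
    fin_cases a
    all_goals first | exact h05 | exact h15 | exact h25 | exact h35 | exact h45 | exact absurd rfl ha
  have hall : ∀ a b : Fin 6, a ≠ b → OFrame.eps a b ∈ RI := by
    intro a b hab
    by_cases hb : b = 5
    · subst hb; exact hto a hab
    by_cases ha : a = 5
    · subst ha; rw [eps_symm hab]; exact hto b hb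
    rw [← eps_trans (b := 5) ha (Ne.symm hb) hab, eps_symm (show (5 : Fin 6) ≠ b from Ne.symm hb)]
    exact mul_mem (hto a ha) (hto b hb)
  have hneg : ∀ g : G, φ g = 1 → (g : GL (Fin 4) K) ∈ R := by
    intro g hg
    rcases (h.phi_eq_one_iff g).1 hg with e | e
    · rw [show (g : GL (Fin 4) K) = 1 from Units.ext e]; exact R.one_mem
    · obtain ⟨z, hz, hze⟩ := hS.scal (-1) (by ring)
      rw [show (g : GL (Fin 4) K) = z from Units.ext (by rw [hze, e, neg_one_smul])]
      exact hz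
  have hback : ∀ g : G, φ g ∈ RI → (g : GL (Fin 4) K) ∈ R := by
    intro g hg
    obtain ⟨r, hr, hrg⟩ := Subgroup.mem_map.1 hg
    have := hneg (r⁻¹ * g) (by rw [map_mul, map_inv, hrg, inv_mul_cancel])
    have h' := R.mul_mem (Subgroup.mem_subgroupOf.1 hr) this
    simpa using h'
  have hdiag : ∀ g : G, (g : GL (Fin 4) K) ∈ R → Diag (φ g) := by
    intro g hg
    obtain ⟨c, hc, a, b, d, e, hgM⟩ := hS.gen _ hg
    obtain ⟨z, hz, hze⟩ := hS.scal c hc
    have hge : g = ⟨z, hRG hz⟩ * (a1 ^ a * a2 ^ b * b1 ^ d * b2 ^ e) := Subtype.ext (Units.ext (by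
      simp only [Subgroup.coe_mul, SubgroupClass.coe_pow, Units.val_mul, Units.val_pow_eq_pow_val, hv1, hv2,
        hw1, hw2, hze, hgM, smul_mul_assoc, one_mul]))
    have hpow : ∀ {o : OFrame.O F 6} (n : ℕ), Diag o → Diag (o ^ n) := fun {o} n ho => by
      induction n with
      | zero => rw [pow_zero]; exact diag_one
      | succ n ih => rw [pow_succ]; exact ih.mul ho
    have hzd : Diag (φ ⟨z, hRG hz⟩) := by
      have hcc : c * c = 1 ∨ c * c = -1 := mul_self_eq_one_iff.1 (by linear_combination hc)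
      rcases hcc with hcc | hcc
      · have hcpm := mul_self_eq_one_iff.1 hcc
        rw [(h.phi_eq_one_iff _).2 (hcpm.imp (fun e => by rw [hze, e, one_smul])
          fun e => by rw [hze, e, neg_one_smul])]
        exact diag_one
      · refine (IsNeg.diag (S := Finset.univ) fun x => mat_injective h.two h.sq_i ?_)
        rw [hφ, h.phi_spec, hze, congr_scalar hcc]
    rw [hge, map_mul, map_mul, map_mul, map_mul, map_pow, map_pow, map_pow, map_pow]
    exact hzd.mul ((((hpow a hn1.diag).mul (hpow b hn2.diag)).mul (hpow d hm1.diag)).mul (hpow e hm2.diag))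
  -- the normaliser is the monomial part
  have hiff : ∀ g : G, (g : GL (Fin 4) K) ∈ Cfsg.Geo.subgroupNormalizer R ↔ OFrame.Mono (φ g) := by
    intro g
    constructor
    · intro hN j
      set v := (φ g).1 (OFrame.e j) with hv
      have heig : ∀ {a : G} {S : Finset (Fin 6)}, (a : GL (Fin 4) K) ∈ R → IsNeg S (φ a) →
          ∀ t u, v t ≠ 0 → v u ≠ 0 → (t ∈ S ↔ u ∈ S) := by
        intro a S ha hn t u ht hu
        have hmem' : ((g⁻¹ * a * g : G) : GL (Fin 4) K) ∈ R := by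
          have := (Subgroup.mem_normalizer_iff.1 (inv_mem hN) (a : GL (Fin 4) K)).1 ha
          simpa using this
        obtain ⟨σ, hσ⟩ := hdiag _ hmem' j
        have hv' : fl S v = σ • v := by
          rw [← hn v, hv, ← OFrame.mul_apply, ← map_mul, show a * g = g * (g⁻¹ * a * g) by group, map_mul,
            OFrame.mul_apply, hσ, map_smul]
        have hval : ∀ w, v w ≠ 0 → σ = if w ∈ S then -1 else 1 := fun w hw => by
          have h1 := congrFun hv' w
          rw [Pi.smul_apply, smul_eq_mul, fl] at h1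
          refine mul_right_cancel₀ hw ?_
          rw [← h1]; split_ifs <;> simp
        have h1 := (hval t ht).symm.trans (hval u hu)
        by_cases htS : t ∈ S <;> by_cases huS : u ∈ S
        · exact iff_of_true htS huS
        · rw [if_pos htS, if_neg huS] at h1
          exact absurd (by linear_combination -h1 : (2 : F) = 0) h2
        · rw [if_neg htS, if_pos huS] at h1
          exact absurd (by linear_combination h1 : (2 : F) = 0) h2
        · exact iff_of_false htS huS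
      refine Finset.card_le_one.2 fun t ht u hu => ?_
      rw [OFrame.mem_supp] at ht hu
      exact (by decide : ∀ t u : Fin 6,
          (t ∈ ({2, 3, 4, 5} : Finset (Fin 6)) ↔ u ∈ ({2, 3, 4, 5} : Finset (Fin 6))) →
          (t ∈ ({0, 1, 4, 5} : Finset (Fin 6)) ↔ u ∈ ({0, 1, 4, 5} : Finset (Fin 6))) →
          (t ∈ ({1, 2, 3, 4} : Finset (Fin 6)) ↔ u ∈ ({1, 2, 3, 4} : Finset (Fin 6))) →
          (t ∈ ({0, 1, 2, 5} : Finset (Fin 6)) ↔ u ∈ ({0, 1, 2, 5} : Finset (Fin 6))) → t = u)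
        t u (heig ha1 hn1 t u ht hu) (heig ha2 hn2 t u ht hu) (heig hb1 hm1 t u ht hu) (heig hb2 hm2 t u ht hu)
    · intro hm
      have hconj : ∀ {a : G}, (a : GL (Fin 4) K) ∈ R → φ (g * a * g⁻¹) ∈ RI →
          ((g * a * g⁻¹ : G) : GL (Fin 4) K) ∈ R := fun {a} _ h' => hback _ h'
      have hsI : ∀ {a b : Fin 6}, a ≠ b → φ g * OFrame.eps a b * (φ g)⁻¹ ∈ RI := fun {a b} hab => by
        obtain ⟨c, d, hcd, e⟩ := hm.conj_eps hab
        rw [e]; exact hall c d hcd
      have hscal : ((g * s * g⁻¹ : G) : GL (Fin 4) K) ∈ R := by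
        rw [show ((g * s * g⁻¹ : G) : GL (Fin 4) K) = s from ?_]
        · exact hs
        rw [Subgroup.coe_mul, Subgroup.coe_mul, Subgroup.coe_inv, ← scalar_of_smul_mul hvs (g : GL (Fin 4) K),
          mul_inv_cancel_right]
      have hgen : ∀ {a : G}, (a : GL (Fin 4) K) ∈ R → φ g * φ (s * a) * (φ g)⁻¹ ∈ RI →
          ∃ X, InR R X ∧ ((g : GL (Fin 4) K) : Matrix (Fin 4) (Fin 4) K) *
            ((a : GL (Fin 4) K) : Matrix (Fin 4) (Fin 4) K) = X * ((g : GL (Fin 4) K) : Matrix (Fin 4) (Fin 4) K) := by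
        intro a ha hsa
        have h1 : ((g * (s * a) * g⁻¹ : G) : GL (Fin 4) K) ∈ R :=
          hback _ (by rw [map_mul, map_mul φ g, map_inv]; exact hsa)
        have h2' := R.mul_mem (R.inv_mem hscal) h1
        rw [← Subgroup.coe_inv, ← Subgroup.coe_mul, show (g * s * g⁻¹)⁻¹ * (g * (s * a) * g⁻¹) = g * a * g⁻¹ by group] at h2'
        refine ⟨_, ⟨_, h2', rfl⟩, ?_⟩
        rw [← Units.val_mul, ← Units.val_mul, ← Subgroup.coe_mul, ← Subgroup.coe_mul, inv_mul_cancel_right]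
      refine hS.mem_normalizer _ ?_ ?_ ?_ ?_
      · exact hv1 ▸ hgen ha1 (by rw [e01]; exact hsI (by decide))
      · exact hv2 ▸ hgen ha2 (by rw [e23]; exact hsI (by decide))
      · exact hw1 ▸ hgen hb1 (by rw [e05]; exact hsI (by decide))
      · exact hw2 ▸ hgen hb2 (by rw [e34]; exact hsI (by decide))
  have hmax := OFrame.monoSub_maximal_six (F := F) p hF h2
  refine ⟨lt_of_le_of_ne inf_le_right fun e => ?_, fun M hHM hMG => ?_⟩
  · refine absurd (le_antisymm inf_le_right fun x hx => ?_) hmax.1.ne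
    rw [← hrange] at hx
    obtain ⟨g, rfl⟩ := hx
    exact ⟨(hiff g).1 ((e.ge g.2).1), hrange ▸ ⟨g, rfl⟩⟩
  set M' := (M.subgroupOf G).map φ with hM'
  have hM'le : M' ≤ commutator (OFrame.O F 6) := hrange ▸ Subgroup.map_le_range _ _
  have hge : OFrame.monoSub F 6 ⊓ commutator (OFrame.O F 6) ≤ M' := by
    intro x hx
    obtain ⟨hxm, hxc⟩ := Subgroup.mem_inf.1 hx
    rw [← hrange] at hxc
    obtain ⟨g, rfl⟩ := hxc
    exact Subgroup.mem_map_of_mem _ (Subgroup.mem_subgroupOf.2 (hHM ⟨(hiff g).2 hxm, g.2⟩))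
  rcases hmax.2 M' hge hM'le with e | e
  · refine Or.inl (le_antisymm (fun x hx => ⟨?_, hMG hx⟩) hHM)
    exact (hiff ⟨x, hMG hx⟩).2 ((e.le (Subgroup.mem_map_of_mem φ
      (show (⟨x, hMG hx⟩ : G) ∈ M.subgroupOf G from hx))).1)
  · refine Or.inr (le_antisymm hMG fun x hx => ?_)
    obtain ⟨m, hm, hmx⟩ : φ ⟨x, hx⟩ ∈ M' := by rw [e, ← hrange]; exact ⟨_, rfl⟩
    have hk : φ (m⁻¹ * ⟨x, hx⟩) = 1 := by rw [map_mul, map_inv, hmx, inv_mul_cancel]
    have hN := hHM ⟨(hiff _).2 (hk.symm ▸ OFrame.mono_one), (m⁻¹ * ⟨x, hx⟩ : G).2⟩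
    have := M.mul_mem (show (m : GL (Fin 4) K) ∈ M from hm) hN
    simpa using this

end CfsgLib.Geo.SLFour
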