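/-
The monomial group is maximal in the special linear group of dimension four over at least seven elements.
-/
import Cfsg.Agent.Geo.SLFour.LinesBase
import Cfsg.Agent.Geo.MonomialMaximal
import Cfsg.Agent.Geo.LinearDecomposition

set_option autoImplicit false

namespace CfsgLib.Geo.Mono4

open Matrix Cfsg Cfsg.Geo CfsgLib.Geo CfsgLib.Geo.Mono

variable {F : Type*} [Field F] [Fintype F]


lemma col_eq (g : GL (Fin 4) F) (j : Fin 4) (r : Fin 4) :
    ((g : Matrix (Fin 4) (Fin 4) F) *ᵥ Pi.single j 1) r = (g : Matrix (Fin 4) (Fin 4) F) r j := by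
  rw [Matrix.mulVec_single_one]; rfl

/-- A fourth power different from one. -/
lemma exists_fourth_ne (hq : 7 ≤ Fintype.card F) : ∃ c : Fˣ, (c : F) ^ 4 ≠ 1 := by
  classical
  by_contra h
  push Not at h
  have hsub : (Finset.univ : Finset F).erase 0 ⊆ (Polynomial.nthRoots 4 (1 : F)).toFinset := fun x hx =>
    Multiset.mem_toFinset.2 ((Polynomial.mem_nthRoots (by norm_num)).2
      (h (Units.mk0 x (Finset.ne_of_mem_erase hx))))
  have h1 := (Finset.card_le_card hsub).trans
    ((Multiset.toFinset_card_le _).trans (Polynomial.card_nthRoots 4 1))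
  rw [Finset.card_erase_of_mem (Finset.mem_univ _), Finset.card_univ] at h1
  omega

/-- Three units with distinct squares. -/
lemma exists_three_squares (hq : 7 ≤ Fintype.card F) :
    ∃ f : Fin 3 → Fˣ, Function.Injective fun i => (f i : F) ^ 2 := by
  classical
  set S : Finset F := ((Finset.univ : Finset F).erase 0).image fun x => x ^ 2
  have h1 : ((Finset.univ : Finset F).erase 0).card ≤ 2 * S.card :=
    Finset.card_le_mul_card_image _ 2 fun y _ => by
      by_cases hy : ∃ x : F, x ^ 2 = y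
      · obtain ⟨x, rfl⟩ := hy
        refine (Finset.card_le_card (t := {x, -x}) fun z hz => ?_).trans Finset.card_le_two
        simp only [Finset.mem_filter] at hz
        rcases sq_eq_sq_iff_eq_or_eq_neg.1 hz.2 with e | e <;> simp [e]
      · rw [Finset.filter_eq_empty_iff.2 fun x _ e => hy ⟨x, e⟩]; simp
  rw [Finset.card_erase_of_mem (Finset.mem_univ _), Finset.card_univ] at h1
  obtain ⟨e⟩ : Nonempty (Fin 3 ↪ S) := Function.Embedding.nonempty_of_card_le (by
    rw [Fintype.card_fin, Fintype.card_coe]; omega)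
  have hS : ∀ s : S, ∃ x : Fˣ, (x : F) ^ 2 = s := fun s => by
    obtain ⟨x, hx, hxs⟩ := Finset.mem_image.1 s.2
    exact ⟨Units.mk0 x (Finset.ne_of_mem_erase hx), hxs⟩
  choose f hf using hS
  exact ⟨fun i => f (e i), fun i j h => e.injective (Subtype.ext (by simpa [hf] using h))⟩

/-- The standing hypothesis in dimension four. -/
structure Proper4 (M : Subgroup (GL (Fin 4) F)) : Prop where
  field : 7 ≤ Fintype.card F
  le : monomialGroup (Fin 4) F ⊓ specialLinear (Fin 4) F ≤ M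
  mono : ∀ g ∈ M, ∀ a, g ∈ lineFix a → g ∈ monomialGroup (Fin 4) F

variable {M : Subgroup (GL (Fin 4) F)} (hP : Proper4 M)
include hP

/-- An element with a column of one entry is monomial. -/
lemma Proper4.of_single {g : GL (Fin 4) F} (hg : g ∈ M) {j i : Fin 4}
    (h : ∀ k, k ≠ i → (g : Matrix (Fin 4) (Fin 4) F) k j = 0) : g ∈ monomialGroup (Fin 4) F := by
  obtain ⟨m, hm⟩ := exists_avoid4 (ι := Fin 4) (by simp) {i, j} (Finset.card_le_two.trans (by norm_num))
  simp only [Finset.mem_insert, Finset.mem_singleton, not_or] at hm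
  let π := Equiv.swap i j
  let e : Fˣ := Units.map (Int.castRingHom F : ℤ →* F) (Equiv.Perm.sign π)
  have hx : mon π (Function.update 1 m e) ∈ monomialGroup (Fin 4) F ⊓ specialLinear (Fin 4) F := by
    refine ⟨mon_mem _ _, mem_specialLinear.2 ?_⟩
    rw [det_mon, Finset.prod_eq_single m (fun b _ hb => by simp [Function.update_of_ne hb]) (by simp),
      Function.update_self]
    show ((Equiv.Perm.sign π : ℤ) : F) * ((Equiv.Perm.sign π : ℤ) : F) = 1
    rw [← Int.cast_mul, ← Units.val_mul, Int.units_mul_self]; simp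
  have hxg := hP.mono _ (M.mul_mem (hP.le hx) hg) j fun k hk => by
    obtain ⟨l, rfl⟩ := π.surjective k
    rw [Units.val_mul, show ((mon π (Function.update 1 m e) : Matrix (Fin 4) (Fin 4) F) *
        (g : Matrix (Fin 4) (Fin 4) F)) (π l) j =
      ((mon π (Function.update 1 m e) : Matrix (Fin 4) (Fin 4) F) *ᵥ
        fun x => (g : Matrix (Fin 4) (Fin 4) F) x j) (π l) from rfl, mon_mulVec]
    have hl : l ≠ i := fun e' => hk (by rw [e']; exact Equiv.swap_apply_left i j)
    simp [h l hl]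
  have := (monomialGroup (Fin 4) F).mul_mem ((monomialGroup (Fin 4) F).inv_mem hx.1) hxg
  rwa [inv_mul_cancel_left] at this

/-- A monomial element scaling one column permutes the columns up to scalars. -/
lemma Proper4.image {g x : GL (Fin 4) F} (hg : g ∈ M) (hx : x ∈ monomialGroup (Fin 4) F ⊓ specialLinear (Fin 4) F)
    {a : Fin 4} {γ : F} (hxa : (x : Matrix (Fin 4) (Fin 4) F) *ᵥ ((g : Matrix (Fin 4) (Fin 4) F) *ᵥ Pi.single a 1) =
      γ • ((g : Matrix (Fin 4) (Fin 4) F) *ᵥ Pi.single a 1)) :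
    g⁻¹ * x * g ∈ monomialGroup (Fin 4) F := by
  refine hP.mono _ (M.mul_mem (M.mul_mem (M.inv_mem hg) (hP.le hx)) hg) a fun i hi => ?_
  rw [← col_eq, mul_mulVec, mul_mulVec, hxa, Matrix.mulVec_smul, inv_mulVec_mulVec, Pi.smul_apply,
    Pi.single_eq_of_ne hi, smul_zero]

omit hP in
/-- The image of a column under a conjugate monomial element. -/
lemma image_col {g x : GL (Fin 4) F} (h : g⁻¹ * x * g ∈ monomialGroup (Fin 4) F) (l : Fin 4) :
    ∃ (m : Fin 4) (c : F), c ≠ 0 ∧ (x : Matrix (Fin 4) (Fin 4) F) *ᵥ ((g : Matrix (Fin 4) (Fin 4) F) *ᵥ Pi.single l 1) =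
      c • ((g : Matrix (Fin 4) (Fin 4) F) *ᵥ Pi.single m 1) := by
  obtain ⟨π, hπ⟩ := h
  obtain ⟨i, hi⟩ := col_ne_zero (g⁻¹ * x * g) l
  have hil : i = π l := by_contra fun e => hi (hπ i l e)
  refine ⟨π l, ((g⁻¹ * x * g : GL (Fin 4) F) : Matrix (Fin 4) (Fin 4) F) (π l) l, hil ▸ hi, ?_⟩
  conv_lhs => rw [← mulVec_inv_mulVec g ((x : Matrix (Fin 4) (Fin 4) F) *ᵥ _)]
  rw [← mul_mulVec g⁻¹ x, ← mul_mulVec (g⁻¹ * x) g, ← Matrix.mulVec_smul]
  congr 1
  funext k
  rw [Matrix.mulVec_single_one]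
  by_cases hk : k = π l
  · subst hk; simp
  · rw [Pi.smul_apply, Pi.single_eq_of_ne hk, smul_zero]; exact hπ k l hk

/-- Two zeros of one column are shared by every column not supported there. -/
lemma Proper4.two_zeros {g : GL (Fin 4) F} (hg : g ∈ M) {a l p q r : Fin 4} (hpq : p ≠ q)
    (hp : (g : Matrix (Fin 4) (Fin 4) F) p a = 0) (hq : (g : Matrix (Fin 4) (Fin 4) F) q a = 0)
    (hrp : r ≠ p) (hrq : r ≠ q)
    (hr : (g : Matrix (Fin 4) (Fin 4) F) r l ≠ 0) :
    (g : Matrix (Fin 4) (Fin 4) F) p l = 0 ∧ (g : Matrix (Fin 4) (Fin 4) F) q l = 0 := by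
  classical
  by_contra hne
  obtain ⟨f⟩ : Nonempty (Fin 4 ↪ Fˣ) :=
    Function.Embedding.nonempty_of_card_le (by
      rw [Fintype.card_fin, Fintype.card_units]; have := hP.field; omega)
  set v := (g : Matrix (Fin 4) (Fin 4) F) *ᵥ Pi.single a 1 with hv
  set w := (g : Matrix (Fin 4) (Fin 4) F) *ᵥ Pi.single l 1 with hw
  have hval : ∀ (x : (Fin 4 → F)) (s : Fˣ), (twoAt p q s : Matrix (Fin 4) (Fin 4) F) *ᵥ x =
      x + (((s : F) - 1) * x p) • Pi.single p 1 + (((s : F)⁻¹ - 1) * x q) • Pi.single q 1 := fun x s => by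
    funext k
    rw [twoAt, torus_mulVec]
    rcases eq_or_ne k p with rfl | hkp
    · simp [hpq]; ring
    rcases eq_or_ne k q with rfl | hkq
    · simp [hpq.symm]; ring
    simp [Function.update_of_ne hkq, Function.update_of_ne hkp, hkp, hkq]
  have hfix : ∀ i, (twoAt p q (f i) : Matrix (Fin 4) (Fin 4) F) *ᵥ v = (1 : F) • v := fun i => by
    rw [hval, one_smul, hv, col_eq, col_eq, hp, hq]; simp
  choose m c hc hu using fun i => image_col (hP.image hg (twoAt_mem hpq (f i)) (hfix i)) l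
  set u := fun i => (twoAt p q (f i) : Matrix (Fin 4) (Fin 4) F) *ᵥ w with hudef
  have hu' : ∀ i, ((g⁻¹ : GL (Fin 4) F) : Matrix (Fin 4) (Fin 4) F) *ᵥ u i = c i • Pi.single (m i) 1 := fun i => by
    show ((g⁻¹ : GL (Fin 4) F) : Matrix (Fin 4) (Fin 4) F) *ᵥ ((twoAt p q (f i) : Matrix (Fin 4) (Fin 4) F) *ᵥ w) = _
    rw [hw, hu i, Matrix.mulVec_smul, inv_mulVec_mulVec]
  have hm : Function.Injective m := by
    intro i j hij
    have e : u i = (c i / c j) • u j := by
      show (twoAt p q (f i) : Matrix (Fin 4) (Fin 4) F) *ᵥ w = (c i / c j) • ((twoAt p q (f j) : Matrix (Fin 4) (Fin 4) F) *ᵥ w)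
      rw [hw, hu i, hu j, hij, smul_smul, div_mul_cancel₀ _ (hc j)]
    simp only [u, hval] at e
    have er := congrFun e r
    simp [hrp, hrq] at er
    have hwr : w r ≠ 0 := by rw [hw, col_eq]; exact hr
    have h1 : c i / c j = 1 := mul_right_cancel₀ hwr (by rw [← er, one_mul])
    rw [h1, one_smul] at e
    rw [not_and_or, ← col_eq g l p, ← col_eq g l q, ← hw] at hne
    rcases hne with h | h
    · have := congrFun e p
      simp [hpq] at this
      exact f.injective (Units.ext (this.resolve_right h))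
    · have := congrFun e q
      simp [hpq.symm] at this
      exact f.injective (Units.ext (this.resolve_right h))
  have hli := linearIndependent_of_images u m c hc hu' hm
  have hsub : Set.range u ⊆ (Submodule.span F (({w, Pi.single p 1, Pi.single q 1} : Finset (Fin 4 → F)) : Set (Fin 4 → F)) : Set (Fin 4 → F)) := by
    rintro _ ⟨i, rfl⟩
    simp only [u, hval]
    exact Submodule.add_mem _ (Submodule.add_mem _ (Submodule.subset_span (by simp))
      (Submodule.smul_mem _ _ (Submodule.subset_span (by simp))))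
      (Submodule.smul_mem _ _ (Submodule.subset_span (by simp)))
  have h1 := Submodule.finrank_mono (Submodule.span_le.2 hsub)
  rw [finrank_span_eq_card hli, Fintype.card_fin] at h1
  have h2 := (finrank_span_finset_le_card (R := F) ({w, Pi.single p 1, Pi.single q 1} : Finset (Fin 4 → F))).trans Finset.card_le_three
  change 4 ≤ _ at h1
  exact absurd (h1.trans h2) (by norm_num)

/-- Outside the monomial group a column has at most one zero. -/
lemma Proper4.zero_unique {g : GL (Fin 4) F} (hg : g ∈ M) (hgm : g ∉ monomialGroup (Fin 4) F) {a p q : Fin 4}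
    (hp : (g : Matrix (Fin 4) (Fin 4) F) p a = 0) (hq : (g : Matrix (Fin 4) (Fin 4) F) q a = 0) : p = q := by
  classical
  by_contra hpq
  obtain ⟨l, hl⟩ := row_ne_zero g p
  have hcase : ∀ r, r ≠ p → r ≠ q → (g : Matrix (Fin 4) (Fin 4) F) r l = 0 := fun r h1 h2 => by
    by_contra hr
    exact hl (hP.two_zeros hg hpq hp hq h1 h2 hr).1
  obtain ⟨k, hk⟩ := col_ne_zero g a
  have hkp : k ≠ p := fun e => hk (e ▸ hp)
  have hkq : k ≠ q := fun e => hk (e ▸ hq)
  obtain ⟨k', hk'k, hk'⟩ : ∃ k', k' ≠ k ∧ (g : Matrix (Fin 4) (Fin 4) F) k' a ≠ 0 := by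
    by_contra hc
    push Not at hc
    exact hgm (hP.of_single hg hc)
  have hk'p : k' ≠ p := fun e => hk' (e ▸ hp)
  have hk'q : k' ≠ q := fun e => hk' (e ▸ hq)
  obtain ⟨f, hf⟩ := exists_three_squares hP.field
  set v := (g : Matrix (Fin 4) (Fin 4) F) *ᵥ Pi.single a 1 with hv
  have hval : ∀ (x : (Fin 4 → F)) (s : Fˣ), ((twoAt k k' s : Matrix (Fin 4) (Fin 4) F) *ᵥ x) k = (s : F) * x k ∧
      ((twoAt k k' s : Matrix (Fin 4) (Fin 4) F) *ᵥ x) k' = (s : F)⁻¹ * x k' ∧
      ∀ r, r ≠ k → r ≠ k' → ((twoAt k k' s : Matrix (Fin 4) (Fin 4) F) *ᵥ x) r = x r := fun x s => by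
    refine ⟨?_, ?_, fun r h1 h2 => ?_⟩ <;> rw [twoAt, torus_mulVec]
    · rw [Function.update_of_ne hk'k.symm, Function.update_self]
    · rw [Function.update_self, Units.val_inv_eq_inv_val]
    · rw [Function.update_of_ne h2, Function.update_of_ne h1]; simp
  have hfix : ∀ i, (twoAt k k' (f i) : Matrix (Fin 4) (Fin 4) F) *ᵥ ((g : Matrix (Fin 4) (Fin 4) F) *ᵥ Pi.single l 1) =
      (1 : F) • ((g : Matrix (Fin 4) (Fin 4) F) *ᵥ Pi.single l 1) := fun i => by
    funext r
    obtain ⟨h1, h2, h3⟩ := hval ((g : Matrix (Fin 4) (Fin 4) F) *ᵥ Pi.single l 1) (f i)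
    rw [one_smul]
    rcases eq_or_ne r k with rfl | hrk
    · rw [h1, col_eq, hcase r hkp hkq, mul_zero]
    rcases eq_or_ne r k' with rfl | hrk'
    · rw [h2, col_eq, hcase r hk'p hk'q, mul_zero]
    exact h3 r hrk hrk'
  choose m c hc hu using fun i => image_col (hP.image hg (twoAt_mem hk'k.symm (f i)) (hfix i)) a
  set u := fun i => (twoAt k k' (f i) : Matrix (Fin 4) (Fin 4) F) *ᵥ v with hudef
  have hu' : ∀ i, ((g⁻¹ : GL (Fin 4) F) : Matrix (Fin 4) (Fin 4) F) *ᵥ u i = c i • Pi.single (m i) 1 := fun i => by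
    show ((g⁻¹ : GL (Fin 4) F) : Matrix (Fin 4) (Fin 4) F) *ᵥ ((twoAt k k' (f i) : Matrix (Fin 4) (Fin 4) F) *ᵥ v) = _
    rw [hv, hu i, Matrix.mulVec_smul, inv_mulVec_mulVec]
  have hm : Function.Injective m := by
    intro i j hij
    have e : u i = (c i / c j) • u j := by
      show (twoAt k k' (f i) : Matrix (Fin 4) (Fin 4) F) *ᵥ v = (c i / c j) • ((twoAt k k' (f j) : Matrix (Fin 4) (Fin 4) F) *ᵥ v)
      rw [hv, hu i, hu j, hij, smul_smul, div_mul_cancel₀ _ (hc j)]
    have e1 := congrFun e k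
    have e2 := congrFun e k'
    simp only [u, Pi.smul_apply, smul_eq_mul, (hval v _).1, (hval v _).2.1] at e1 e2
    have hvk : v k ≠ 0 := by rw [hv, col_eq]; exact hk
    have hvk' : v k' ≠ 0 := by rw [hv, col_eq]; exact hk'
    refine hf ?_
    have a1 : (f i : F) = c i / c j * (f j : F) := mul_right_cancel₀ hvk (by linear_combination e1)
    have a2 : (f i : F)⁻¹ = c i / c j * (f j : F)⁻¹ := mul_right_cancel₀ hvk' (by linear_combination e2)
    have n1 := mul_inv_cancel₀ (f i).ne_zero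
    have n2 := mul_inv_cancel₀ (f j).ne_zero
    show (f i : F) ^ 2 = (f j : F) ^ 2
    have n1' : c i / c j * (f j : F) * (c i / c j * (f j : F)⁻¹) = 1 := by rw [← a1, ← a2]; exact n1
    rw [a1, mul_pow, show (c i / c j) ^ 2 = 1 by linear_combination n1' - (c i / c j) ^ 2 * n2, one_mul]
  have hli := linearIndependent_of_images u m c hc hu' hm
  have hsub : Set.range u ⊆ (Submodule.span F (({Pi.single k 1, Pi.single k' 1} : Finset (Fin 4 → F)) : Set (Fin 4 → F)) : Set (Fin 4 → F)) := by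
    rintro _ ⟨i, rfl⟩
    have e : u i = (u i k) • Pi.single k 1 + (u i k') • Pi.single k' 1 := by
      funext r
      rcases eq_or_ne r k with rfl | hrk
      · simp [hk'k.symm]
      rcases eq_or_ne r k' with rfl | hrk'
      · simp [hk'k]
      have hr : r = p ∨ r = q := by
        have hsub' : ({p, q, k, k', r} : Finset (Fin 4)).card ≤ 4 := (Finset.card_le_univ _).trans (Fintype.card_fin 4).le
        by_contra hr
        push Not at hr
        rw [Finset.card_insert_of_notMem (by simp [hpq, hkp.symm, hk'p.symm, hr.1.symm]),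
          Finset.card_insert_of_notMem (by simp [hkq.symm, hk'q.symm, hr.2.symm]),
          Finset.card_insert_of_notMem (by simp [hk'k.symm, hrk.symm]),
          Finset.card_insert_of_notMem (by simp [hrk'.symm]), Finset.card_singleton] at hsub'
        omega
      simp only [u, Pi.add_apply, Pi.smul_apply, smul_eq_mul, Pi.single_eq_of_ne hrk, Pi.single_eq_of_ne hrk',
        mul_zero, add_zero]
      rw [(hval v (f i)).2.2 r hrk hrk', hv, col_eq]
      rcases hr with rfl | rfl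
      · exact hp
      · exact hq
    rw [e]
    exact Submodule.add_mem _ (Submodule.smul_mem _ _ (Submodule.subset_span (by simp)))
      (Submodule.smul_mem _ _ (Submodule.subset_span (by simp)))
  have h1 := Submodule.finrank_mono (Submodule.span_le.2 hsub)
  rw [finrank_span_eq_card hli, Fintype.card_fin] at h1
  have h2 := (finrank_span_finset_le_card (R := F) ({Pi.single k 1, Pi.single k' 1} : Finset (Fin 4 → F))).trans Finset.card_le_two
  exact absurd (h1.trans h2) (by norm_num)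

/-- Outside the monomial group every entry is non-zero. -/
lemma Proper4.entry_ne {g : GL (Fin 4) F} (hg : g ∈ M) (hgm : g ∉ monomialGroup (Fin 4) F) (p a : Fin 4) :
    (g : Matrix (Fin 4) (Fin 4) F) p a ≠ 0 := by
  classical
  intro hp
  obtain ⟨c, hc4⟩ := exists_fourth_ne hP.field
  let d : Fin 4 → Fˣ := Function.update (fun _ => c) p (c ^ 3)⁻¹
  have hd : torus d ∈ monomialGroup (Fin 4) F ⊓ specialLinear (Fin 4) F := by
    refine ⟨torus_mem _, mem_specialLinear.2 ?_⟩
    rw [torus, det_mon, Equiv.Perm.sign_one, ← Units.coe_prod, Finset.prod_update_of_mem (Finset.mem_univ p),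
      Finset.prod_const, Finset.sdiff_singleton_eq_erase, Finset.card_erase_of_mem (Finset.mem_univ p),
      Finset.card_univ, Fintype.card_fin]
    simp
  set D : Matrix (Fin 4) (Fin 4) F := (torus d : Matrix (Fin 4) (Fin 4) F)
  have hval : ∀ (x : (Fin 4 → F)) (r : Fin 4), (D *ᵥ x) r = if r = p then ((c : F) ^ 3)⁻¹ * x r else (c : F) * x r := fun x r => by
    rw [torus_mulVec]
    by_cases hr : r = p
    · subst hr; simp [d]
    · simp [d, hr]
  have hfix : D *ᵥ ((g : Matrix (Fin 4) (Fin 4) F) *ᵥ Pi.single a 1) =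
      (c : F) • ((g : Matrix (Fin 4) (Fin 4) F) *ᵥ Pi.single a 1) := funext fun r => by
    rw [hval, Pi.smul_apply, smul_eq_mul]
    by_cases hr : r = p
    · rw [if_pos hr, hr, col_eq, hp, mul_zero, mul_zero]
    · rw [if_neg hr]
  obtain ⟨j, hj⟩ := row_ne_zero g p
  obtain ⟨m, μ, hμ, hm⟩ := image_col (hP.image hg hd hfix) j
  have hne : ((c : F) ^ 3)⁻¹ ≠ c := fun e => hc4 (by
    have := mul_inv_cancel₀ (pow_ne_zero 3 c.ne_zero)
    rw [e] at this
    linear_combination this)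
  by_cases hmj : m = j
  · subst hmj
    have h1 := congrFun hm p
    rw [hval, if_pos rfl, Pi.smul_apply, smul_eq_mul, col_eq] at h1
    have hμ' : μ = ((c : F) ^ 3)⁻¹ := (mul_right_cancel₀ hj h1).symm
    refine hgm (hP.of_single hg (j := m) (i := p) fun r hr => ?_)
    have h2 := congrFun hm r
    rw [hval, if_neg hr, Pi.smul_apply, smul_eq_mul, col_eq, hμ'] at h2
    by_contra h0
    exact hne (mul_right_cancel₀ h0 h2).symm
  · set k := (((c : F) ^ 3)⁻¹ - c) * (g : Matrix (Fin 4) (Fin 4) F) p j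
    have hk : k ≠ 0 := mul_ne_zero (sub_ne_zero.2 hne) hj
    have e : k • (Pi.single p 1 : (Fin 4 → F)) = (g : Matrix (Fin 4) (Fin 4) F) *ᵥ
        (μ • Pi.single m 1 - (c : F) • Pi.single j 1) := by
      rw [Matrix.mulVec_sub, Matrix.mulVec_smul, Matrix.mulVec_smul, ← hm]
      funext r
      rw [Pi.sub_apply, hval, Pi.smul_apply, Pi.smul_apply, smul_eq_mul, smul_eq_mul]
      by_cases hr : r = p
      · subst hr; simp [k, col_eq]; ring
      · simp [hr]
    have e' := congrArg (fun x => ((g⁻¹ : GL (Fin 4) F) : Matrix (Fin 4) (Fin 4) F) *ᵥ x) e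
    simp only [inv_mulVec_mulVec, Matrix.mulVec_smul] at e'
    obtain ⟨s, hs⟩ := exists_avoid4 (ι := Fin 4) (by simp) {m, j} (Finset.card_le_two.trans (by norm_num))
    obtain ⟨t, ht⟩ := exists_avoid4 (ι := Fin 4) (by simp) {m, j, s} Finset.card_le_three
    simp only [Finset.mem_insert, Finset.mem_singleton, not_or] at hs ht
    have hz : ∀ r, r ≠ m → r ≠ j → ((g⁻¹ : GL (Fin 4) F) : Matrix (Fin 4) (Fin 4) F) r p = 0 := fun r h1 h2 => by
      have := congrFun e' r
      rw [Pi.smul_apply, smul_eq_mul, col_eq, Pi.sub_apply, Pi.smul_apply, Pi.smul_apply,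
        Pi.single_eq_of_ne h1, Pi.single_eq_of_ne h2, smul_zero, smul_zero, sub_zero] at this
      exact (mul_eq_zero.1 this).resolve_left hk
    exact ht.2.2 (hP.zero_unique (M.inv_mem hg) (fun h => hgm (inv_inv g ▸ inv_mem h))
      (hz t ht.1 ht.2.1) (hz s hs.1 hs.2))

omit hP in
lemma mono_ext {x y : GL (Fin 4) F}
    (h : ∀ z : (Fin 4 → F), (x : Matrix (Fin 4) (Fin 4) F) *ᵥ z = (y : Matrix (Fin 4) (Fin 4) F) *ᵥ z) : x = y :=
  gl_ext_mulVec h

omit hP [Fintype F] in
lemma isMonoAt_mul {x y : GL (Fin 4) F} {π π' : Equiv.Perm (Fin 4)} (hx : IsMonoAt x π) (hy : IsMonoAt y π') :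
    IsMonoAt (x * y) (π * π') := fun i j hij => by
  rw [Units.val_mul, Matrix.mul_apply, Finset.sum_eq_single (π' j) (fun k _ hk => by rw [hy k j hk, mul_zero])
    (by simp), hx i (π' j) hij, zero_mul]

omit hP in
lemma isMonoAt_unique {x : GL (Fin 4) F} {π π' : Equiv.Perm (Fin 4)} (h : IsMonoAt x π) (h' : IsMonoAt x π') : π = π' :=
  Equiv.ext fun j => by
    obtain ⟨i, hi⟩ := col_ne_zero x j
    exact (by_contra fun e => hi (h i j (Ne.symm e)) : π j = i).trans
      (by_contra fun e => hi (h' i j (Ne.symm e)) : π' j = i).symm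

omit [Fintype F] hP in
set_option synthInstance.maxSize 512 in
set_option synthInstance.maxHeartbeats 100000 in
lemma involution_perm : ∀ (a : Fin 4) (p r : Equiv.Perm (Fin 4)), p a = a → r a = a → p * p = 1 →
    p * (r * p * r⁻¹) = (r * p * r⁻¹) * p → r * (r * p * r⁻¹) * r⁻¹ = p * (r * p * r⁻¹) → p = 1 := by
  decide +kernel

/-- The three double transpositions. -/
def dbl : Fin 3 → Equiv.Perm (Fin 4) :=
  ![Equiv.swap 0 1 * Equiv.swap 2 3, Equiv.swap 0 2 * Equiv.swap 1 3, Equiv.swap 0 3 * Equiv.swap 1 2]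

/-- A permutation cycling them. -/
def cyc : Equiv.Perm (Fin 4) := Equiv.swap 1 2 * Equiv.swap 2 3

omit [Fintype F] hP in
lemma dbl_spec : (∀ t, dbl t * dbl t = 1) ∧ dbl 0 * dbl 1 = dbl 1 * dbl 0 ∧
    (∃ t₁ t₂, cyc * dbl 0 * cyc⁻¹ = dbl t₁ ∧ cyc * dbl t₁ * cyc⁻¹ = dbl t₂ ∧ dbl 0 * dbl t₁ = dbl t₂ ∧
      dbl 0 * dbl t₁ = dbl t₁ * dbl 0 ∧ ∀ t, t = 0 ∨ t = t₁ ∨ t = t₂) ∧
    (∀ i k : Fin 4, i ≠ k → ∃ t, dbl t i = k) ∧ Equiv.Perm.sign cyc = 1 ∧ ∀ t, Equiv.Perm.sign (dbl t) = 1 := by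
  decide +kernel

/-- The double transpositions act diagonally on the columns and rows. -/
lemma Proper4.signs {g : GL (Fin 4) F} (hg : g ∈ M) (hgm : g ∉ monomialGroup (Fin 4) F) (a : Fin 4) :
    ∃ d : Fin 3 → Fin 4 → F, (∀ t j, d t j * d t j = 1) ∧
      (∀ t i j, (g : Matrix (Fin 4) (Fin 4) F) (dbl t i) j * (g : Matrix (Fin 4) (Fin 4) F) i a =
        d t j * ((g : Matrix (Fin 4) (Fin 4) F) i j * (g : Matrix (Fin 4) (Fin 4) F) (dbl t i) a)) ∧
      ∀ t i j, (g : Matrix (Fin 4) (Fin 4) F) (dbl t i) j * ((g⁻¹ : GL (Fin 4) F) : Matrix (Fin 4) (Fin 4) F) j (dbl t i) =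
        (g : Matrix (Fin 4) (Fin 4) F) i j * ((g⁻¹ : GL (Fin 4) F) : Matrix (Fin 4) (Fin 4) F) j i := by
  classical
  set G : Matrix (Fin 4) (Fin 4) F := (g : Matrix (Fin 4) (Fin 4) F)
  have hv : ∀ x, G x a ≠ 0 := fun x => hP.entry_ne hg hgm x a
  let c : Equiv.Perm (Fin 4) → Fin 4 → Fˣ := fun σ y => Units.mk0 (G (σ y) a / G y a) (div_ne_zero (hv _) (hv _))
  let X : Equiv.Perm (Fin 4) → GL (Fin 4) F := fun σ => mon σ (c σ)
  have hXmul : ∀ σ σ', X σ * X σ' = X (σ * σ') := fun σ σ' => mono_ext fun z => funext fun r => by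
    obtain ⟨y, rfl⟩ := (σ * σ').surjective r
    simp only [X]
    rw [mul_mulVec, mon_mulVec, Equiv.Perm.mul_apply, mon_mulVec, mon_mulVec]
    simp only [c, Units.val_mk0, Equiv.Perm.mul_apply]
    have := hv (σ' y)
    have := hv y
    field_simp
  have hXone : X 1 = 1 := by
    have h := hXmul 1 1
    rw [mul_one] at h
    exact mul_eq_left.1 h
  have hXinv : ∀ σ, (X σ)⁻¹ = X σ⁻¹ := fun σ => inv_eq_of_mul_eq_one_right (by rw [hXmul, mul_inv_cancel, hXone])
  have hXmem : ∀ σ, Equiv.Perm.sign σ = 1 → X σ ∈ monomialGroup (Fin 4) F ⊓ specialLinear (Fin 4) F := by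
    intro σ hσ
    refine ⟨mon_mem _ _, mem_specialLinear.2 ?_⟩
    rw [det_mon, hσ]
    simp only [c, Units.val_mk0]
    rw [Finset.prod_div_distrib, Equiv.prod_comp σ (fun y => G y a),
      div_self (Finset.prod_ne_zero_iff.2 fun y _ => hv y)]
    simp
  have hXfix : ∀ σ, (X σ : Matrix (Fin 4) (Fin 4) F) *ᵥ (G *ᵥ Pi.single a 1) = (1 : F) • (G *ᵥ Pi.single a 1) :=
    fun σ => funext fun r => by
      obtain ⟨y, rfl⟩ := σ.surjective r
      simp only [X]
      rw [mon_mulVec, one_smul, col_eq, col_eq]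
      simp only [c, Units.val_mk0]
      rw [div_mul_cancel₀ _ (hv y)]
  -- the permutations induced on the columns
  let Y : Equiv.Perm (Fin 4) → GL (Fin 4) F := fun σ => g⁻¹ * X σ * g
  have hYmul : ∀ σ σ', Y σ * Y σ' = Y (σ * σ') := fun σ σ' => by
    simp only [Y]; rw [← hXmul]; group
  have hYinv : ∀ σ, (Y σ)⁻¹ = Y σ⁻¹ := fun σ => by simp only [Y]; rw [← hXinv]; group
  have hY : ∀ σ, Equiv.Perm.sign σ = 1 → ∃ π, IsMonoAt (Y σ) π := fun σ hσ =>
    hP.image hg (hXmem σ hσ) (hXfix σ)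
  have hYa : ∀ σ π, IsMonoAt (Y σ) π → π a = a := fun σ π hπ => by
    by_contra hne
    have h := hπ a a (Ne.symm hne)
    rw [← col_eq] at h
    simp only [Y, mul_mulVec] at h
    rw [show (g : Matrix (Fin 4) (Fin 4) F) = G from rfl, hXfix, one_smul, inv_mulVec_mulVec,
      Pi.single_eq_same] at h
    exact one_ne_zero h
  obtain ⟨hsq, -, ⟨t₁, t₂, h01, h12, hprod, hcomm, hall⟩, -, hscyc, hsdbl⟩ := dbl_spec
  choose π hπ using fun t => hY (dbl t) (hsdbl t)
  obtain ⟨ρ, hρ⟩ := hY cyc hscyc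
  have hone : IsMonoAt (1 : GL (Fin 4) F) 1 := fun i j hij => by simpa [Matrix.one_apply] using hij
  have hinv : IsMonoAt (Y cyc)⁻¹ ρ⁻¹ := by
    obtain ⟨ρ', hρ'⟩ : ∃ π, IsMonoAt (Y cyc)⁻¹ π := (monomialGroup (Fin 4) F).inv_mem ⟨ρ, hρ⟩
    have h := isMonoAt_mul hρ hρ'
    rw [mul_inv_cancel] at h
    rwa [eq_inv_of_mul_eq_one_right (isMonoAt_unique h hone)] at hρ'
  have hconj : ∀ t t', cyc * dbl t * cyc⁻¹ = dbl t' → π t' = ρ * π t * ρ⁻¹ := fun t t' h => by
    refine isMonoAt_unique (hπ t') ?_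
    rw [← h, ← hYmul, ← hYmul, ← hYinv]
    exact isMonoAt_mul (isMonoAt_mul hρ (hπ t)) hinv
  have hmulp : ∀ t t' s, dbl t * dbl t' = dbl s → π s = π t * π t' := fun t t' s h => by
    refine isMonoAt_unique (hπ s) ?_
    rw [← h, ← hYmul]
    exact isMonoAt_mul (hπ t) (hπ t')
  have hπsq : ∀ t, π t * π t = 1 := fun t => by
    refine isMonoAt_unique ?_ hone
    have h := isMonoAt_mul (hπ t) (hπ t)
    rwa [hYmul, hsq, show Y 1 = 1 by simp [Y, hXone]] at h
  have hπ0 : π 0 = 1 := by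
    refine involution_perm a (π 0) ρ (hYa _ _ (hπ 0)) (hYa _ _ hρ) (hπsq 0) ?_ ?_
    · rw [← hconj 0 t₁ h01]
      refine isMonoAt_unique (isMonoAt_mul (hπ 0) (hπ t₁)) ?_
      rw [hYmul, hcomm, ← hYmul]
      exact isMonoAt_mul (hπ t₁) (hπ 0)
    · rw [← hconj 0 t₁ h01, ← hconj t₁ t₂ h12, hmulp 0 t₁ t₂ hprod]
  have hπ1 : ∀ t, π t = 1 := fun t => by
    have h1 : π t₁ = 1 := by rw [hconj 0 t₁ h01, hπ0, mul_one, mul_inv_cancel]
    rcases hall t with rfl | rfl | rfl
    · exact hπ0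
    · exact h1
    · rw [hmulp 0 t₁ t hprod, hπ0, h1, mul_one]
  have hdiag : ∀ t i j, i ≠ j → (Y (dbl t) : Matrix (Fin 4) (Fin 4) F) i j = 0 := fun t i j hij =>
    hπ t i j (by rw [hπ1 t]; exact hij)
  let d : Fin 3 → Fin 4 → F := fun t j => (Y (dbl t) : Matrix (Fin 4) (Fin 4) F) j j
  have hYd : ∀ t, (Y (dbl t) : Matrix (Fin 4) (Fin 4) F) = Matrix.diagonal (d t) := fun t => by
    ext i j
    rcases eq_or_ne i j with rfl | hij
    · rw [Matrix.diagonal_apply_eq]
    · rw [hdiag t i j hij, Matrix.diagonal_apply_ne _ hij]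
  refine ⟨d, fun t j => ?_, fun t i j => ?_, fun t i j => ?_⟩
  · have h := congrArg (fun x : GL (Fin 4) F => (x : Matrix (Fin 4) (Fin 4) F) j j)
      (show Y (dbl t) * Y (dbl t) = 1 by rw [hYmul, hsq]; simp [Y, hXone])
    simpa [hYd] using h
  · have h : (X (dbl t) : Matrix (Fin 4) (Fin 4) F) * G = G * Matrix.diagonal (d t) := by
      rw [← hYd, ← Units.val_mul, ← Units.val_mul]
      congr 1
      simp only [Y]; group
    have hcol : (X (dbl t) : Matrix (Fin 4) (Fin 4) F) *ᵥ (fun r => G r j) = fun r => d t j * G r j := funext fun r => by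
      have := congrFun (congrFun h r) j
      rw [Matrix.mul_diagonal] at this
      rw [mul_comm (d t j)]; exact this
    have e := congrFun hcol (dbl t i)
    simp only [X] at e
    rw [mon_mulVec] at e
    simp only [c, Units.val_mk0] at e
    have := hv i
    field_simp at e
    have hd := show d t j * d t j = 1 from by
      have h' := congrArg (fun x : GL (Fin 4) F => (x : Matrix (Fin 4) (Fin 4) F) j j)
        (show Y (dbl t) * Y (dbl t) = 1 by rw [hYmul, hsq]; simp [Y, hXone])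
      simpa [hYd] using h'
    linear_combination (G (dbl t i) j * G i a) * (-hd) + (-(d t j)) * e
  · have h : (X (dbl t) : Matrix (Fin 4) (Fin 4) F) * G = G * Matrix.diagonal (d t) := by
      rw [← hYd, ← Units.val_mul, ← Units.val_mul]
      congr 1
      simp only [Y]; group
    have h' : ((g⁻¹ : GL (Fin 4) F) : Matrix (Fin 4) (Fin 4) F) * (X (dbl t) : Matrix (Fin 4) (Fin 4) F) =
        Matrix.diagonal (d t) * ((g⁻¹ : GL (Fin 4) F) : Matrix (Fin 4) (Fin 4) F) := by
      rw [← hYd, ← Units.val_mul, ← Units.val_mul]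
      congr 1
      simp only [Y]; group
    have e := congrFun (congrFun h (dbl t i)) j
    have e' := congrFun (congrFun h' j) i
    rw [Matrix.mul_diagonal] at e
    rw [Matrix.diagonal_mul] at e'
    change ((X (dbl t) : Matrix (Fin 4) (Fin 4) F) *ᵥ fun r => G r j) (dbl t i) = _ at e
    change ((((g⁻¹ : GL (Fin 4) F) : Matrix (Fin 4) (Fin 4) F) j) ᵥ* (X (dbl t) : Matrix (Fin 4) (Fin 4) F)) i = _ at e'
    simp only [X] at e e'
    rw [mon_mulVec] at e
    rw [vecMul_mon] at e'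
    have hd := show d t j * d t j = 1 from by
      have h'' := congrArg (fun x : GL (Fin 4) F => (x : Matrix (Fin 4) (Fin 4) F) j j)
        (show Y (dbl t) * Y (dbl t) = 1 by rw [hYmul, hsq]; simp [Y, hXone])
      simpa [hYd] using h''
    have hc0 := (c (dbl t) i).ne_zero
    refine mul_left_cancel₀ hc0 ?_
    linear_combination (-((c (dbl t) i : F) * G (dbl t i) j * ((g⁻¹ : GL (Fin 4) F) : Matrix (Fin 4) (Fin 4) F) j (dbl t i) -
        (c (dbl t) i : F) * G i j * ((g⁻¹ : GL (Fin 4) F) : Matrix (Fin 4) (Fin 4) F) j i)) * hd +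
      (-(d t j * ((g⁻¹ : GL (Fin 4) F) : Matrix (Fin 4) (Fin 4) F) j (dbl t i) * (c (dbl t) i : F))) * e +
      ((c (dbl t) i : F) * G i j * d t j) * e'

/-- Hence every element is monomial. -/
theorem Proper4.le_monomial : M ≤ monomialGroup (Fin 4) F := by
  classical
  intro g hg
  by_contra hgm
  set G : Matrix (Fin 4) (Fin 4) F := (g : Matrix (Fin 4) (Fin 4) F)
  set H : Matrix (Fin 4) (Fin 4) F := ((g⁻¹ : GL (Fin 4) F) : Matrix (Fin 4) (Fin 4) F)
  obtain ⟨hsq, -, -, hto, -, -⟩ := dbl_spec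
  have hGne : ∀ i j, G i j ≠ 0 := hP.entry_ne hg hgm
  have hHne : ∀ i j, H i j ≠ 0 := hP.entry_ne (M.inv_mem hg) fun h => hgm (inv_inv g ▸ inv_mem h)
  obtain ⟨d, hd, hcols, hdiag⟩ := hP.signs hg hgm 0
  -- the products of matching entries are all a quarter
  have hprod : ∀ i j, (4 : F) * (G i j * H j i) = 1 := fun i j => by
    have hsum : ∑ r, H j r * G r j = 1 := by
      have : (H * G) j j = 1 := by
        rw [← Units.val_mul, inv_mul_cancel, Units.val_one, Matrix.one_apply_eq]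
      exact (Matrix.mul_apply).symm.trans this
    have hconst : ∀ r, H j r * G r j = G i j * H j i := fun r => by
      rcases eq_or_ne i r with rfl | hir
      · ring
      · obtain ⟨t, rfl⟩ := hto i r hir
        rw [← hdiag t i j]; ring
    rw [← hsum, Finset.sum_congr rfl fun r _ => hconst r]
    simp
  have h2 : (2 : F) ≠ 0 := fun h0 => by
    have := hprod 0 0
    rw [show (4 : F) = 2 * 2 by norm_num, h0] at this
    simp at this
  -- two columns with opposite ratios
  obtain ⟨t, ht⟩ : ∃ t, d t 1 = -1 := by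
    by_contra hno
    push Not at hno
    have hd1 : ∀ t, d t 1 = 1 := fun t => (mul_self_eq_one_iff.1 (hd t 1)).resolve_right (hno t)
    set κ := G 0 1 / G 0 0
    have hratio : ∀ i, G i 1 = κ * G i 0 := fun i => by
      rcases eq_or_ne (0 : Fin 4) i with rfl | hi
      · rw [div_mul_cancel₀ _ (hGne 0 0)]
      · obtain ⟨t, rfl⟩ := hto 0 i hi
        have := hcols t 0 1
        rw [hd1, one_mul] at this
        change G (dbl t 0) 1 * G 0 0 = G 0 1 * G (dbl t 0) 0 at this
        rw [show κ = G 0 1 / G 0 0 from rfl]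
        have := hGne 0 0
        field_simp
        linear_combination ‹G (dbl t 0) 1 * G 0 0 = G 0 1 * G (dbl t 0) 0›
    have e : G *ᵥ (Pi.single 1 1 - κ • Pi.single 0 1) = 0 := by
      rw [Matrix.mulVec_sub, Matrix.mulVec_smul]
      funext i
      rw [Pi.sub_apply, Pi.smul_apply, smul_eq_mul, show ∀ j r, (G *ᵥ Pi.single j 1) r = G r j from fun j r => col_eq g j r,
        show ∀ j r, (G *ᵥ Pi.single j 1) r = G r j from fun j r => col_eq g j r, hratio, sub_self]; rfl
    have e' := congrArg (fun x => H *ᵥ x) e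
    simp only [G, H, inv_mulVec_mulVec, Matrix.mulVec_zero] at e'
    have := congrFun e' 1
    simp at this
  obtain ⟨k, hk⟩ : ∃ k, k = dbl t 0 := ⟨_, rfl⟩
  have hopp : G k 1 * G 0 0 = -(G 0 1 * G k 0) := by
    have := hcols t 0 1
    rw [ht, ← hk] at this
    linear_combination this
  have hk0 : k ≠ 0 := fun e => by
    rw [e] at hopp
    exact mul_ne_zero h2 (mul_ne_zero (hGne 0 1) (hGne 0 0)) (by linear_combination hopp)
  -- the conjugate of a torus element
  obtain ⟨z, hz⟩ := exists_fourth_ne hP.field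
  set y := g * twoAt 0 1 z * g⁻¹
  have hy : y ∈ M := M.mul_mem (M.mul_mem hg (hP.le (twoAt_mem (by decide) z))) (M.inv_mem hg)
  set A := (z : F) - 1
  set B := (z : F)⁻¹ - 1
  have hyv : ∀ i r, (y : Matrix (Fin 4) (Fin 4) F) i r =
      (1 : Matrix (Fin 4) (Fin 4) F) i r + A * (G i 0 * H 0 r) + B * (G i 1 * H 1 r) := fun i r => by
    have hone : ∑ m, G i m * H m r = (1 : Matrix (Fin 4) (Fin 4) F) i r := by
      rw [← Matrix.mul_apply, ← Units.val_mul, mul_inv_cancel, Units.val_one]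
    rw [Units.val_mul, Matrix.mul_apply, ← hone, Fin.sum_univ_four, Fin.sum_univ_four]
    simp only [twoAt, mul_torus_apply]
    simp [A, B, G, H]
    ring
  have h4 : (4 : F) ≠ 0 := by rw [show (4 : F) = 2 * 2 by norm_num]; exact mul_ne_zero h2 h2
  have hdg : ∀ i, 4 * (y : Matrix (Fin 4) (Fin 4) F) i i = 4 + A + B := fun i => by
    rw [hyv, Matrix.one_apply_eq]
    linear_combination A * hprod i 0 + B * hprod i 1
  have hoff : 16 * ((y : Matrix (Fin 4) (Fin 4) F) 0 k * (y : Matrix (Fin 4) (Fin 4) F) k 0) = (A - B) ^ 2 := by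
    rw [hyv, hyv, Matrix.one_apply_ne hk0, Matrix.one_apply_ne hk0.symm]
    have f1 : (16 : F) * (G 0 0 * H 0 k * (G k 0 * H 0 0)) = 1 := by
      linear_combination (4 * (G k 0 * H 0 k)) * hprod 0 0 + hprod k 0
    have f2 : (16 : F) * (G 0 1 * H 1 k * (G k 1 * H 1 0)) = 1 := by
      linear_combination (4 * (G k 1 * H 1 k)) * hprod 0 1 + hprod k 1
    have f3 : (16 : F) * (G 0 0 * H 0 k * (G k 1 * H 1 0)) = -1 := by
      refine mul_right_cancel₀ (mul_ne_zero (hGne k 0) (hGne 0 1)) ?_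
      linear_combination (G 0 0 * G k 1 * (4 * (G k 0 * H 0 k))) * hprod 0 1 + (G 0 0 * G k 1) * hprod k 0 + hopp
    have f4 : (16 : F) * (G 0 1 * H 1 k * (G k 0 * H 0 0)) = -1 := by
      refine mul_right_cancel₀ (mul_ne_zero (hGne k 1) (hGne 0 0)) ?_
      linear_combination (G 0 1 * G k 0 * (4 * (G k 1 * H 1 k))) * hprod 0 0 + (G 0 1 * G k 0) * hprod k 1 + hopp
    linear_combination A ^ 2 * f1 + B ^ 2 * f2 + A * B * f3 + A * B * f4
  have hz0 := z.ne_zero
  have hne1 : (z : F) - (z : F)⁻¹ ≠ 0 := fun e => hz (by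
    have := mul_inv_cancel₀ hz0
    linear_combination ((z : F) ^ 2 + 1) * ((z : F) * e + this))
  have hne2 : 4 + A + B ≠ 0 := fun e => hz (by
    have := mul_inv_cancel₀ hz0
    have h1 : ((z : F) + 1) * ((z : F) + 1) = 0 := by simp only [A, B] at e; linear_combination (z : F) * e - this
    have h2' : (z : F) = -1 := by linear_combination (mul_self_eq_zero.1 h1)
    rw [h2']; norm_num)
  have hym : y ∉ monomialGroup (Fin 4) F := by
    rintro ⟨π, hπ⟩
    have a1 : (0 : Fin 4) = π 0 := by_contra fun e => hne2 (by rw [← hdg 0, hπ 0 0 e, mul_zero])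
    have a2 : k = π 0 := by_contra fun e => hne1 (by
      rw [hπ k 0 e, mul_zero, mul_zero] at hoff
      simp only [A, B] at hoff
      exact pow_eq_zero_iff two_ne_zero |>.1 (by linear_combination -hoff))
    exact hk0 (a2.trans a1.symm)
  obtain ⟨d', hd', hcols', -⟩ := hP.signs hy hym 0
  obtain ⟨t', ht'⟩ := hto 0 k hk0.symm
  have h := hcols' t' 0 k
  rw [ht'] at h
  -- compare fourth powers
  have e1 : (4 + A + B) ^ 2 = d' t' k * (A - B) ^ 2 := by
    rw [← hoff]
    linear_combination (16 : F) * h + (-(4 * (y : Matrix (Fin 4) (Fin 4) F) 0 0)) * hdg k + (-(4 + A + B)) * hdg 0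
  have hzz := mul_inv_cancel₀ hz0
  have e2 : (4 + A + B) ^ 4 = (A - B) ^ 4 := by
    linear_combination ((4 + A + B) ^ 2 + d' t' k * (A - B) ^ 2) * e1 + (A - B) ^ 4 * hd' t' k
  simp only [A, B] at e2
  have e3 : ((z : F) + 1) ^ 8 = ((z : F) ^ 2 - 1) ^ 4 := by
    have := congrArg (fun x => (z : F) ^ 4 * x) e2
    field_simp at this
    linear_combination this
  have hz1 : (z : F) + 1 ≠ 0 := fun e => hz (by
    rw [show (z : F) = -1 by linear_combination e]; norm_num)
  have e4 : ((z : F) + 1) ^ 4 = ((z : F) - 1) ^ 4 :=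
    mul_left_cancel₀ (pow_ne_zero 4 hz1) (by linear_combination e3)
  have e5 : (z : F) ^ 2 + 1 = 0 := by
    refine (mul_eq_zero.1 (show (8 * (z : F)) * ((z : F) ^ 2 + 1) = 0 by linear_combination e4)).resolve_left ?_
    rw [show (8 : F) = 2 * 2 * 2 by norm_num]
    exact mul_ne_zero (mul_ne_zero (mul_ne_zero h2 h2) h2) hz0
  exact hz (by linear_combination ((z : F) ^ 2 - 1) * e5)

omit hP in
/-- The monomial subgroup has no proper overgroup in dimension four. -/
theorem key4 (hq : 7 ≤ Fintype.card F) (hX : monomialGroup (Fin 4) F ⊓ specialLinear (Fin 4) F ≤ M)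
    (hMI : M ≤ specialLinear (Fin 4) F) (hMX : ¬ M ≤ monomialGroup (Fin 4) F) :
    specialLinear (Fin 4) F ≤ M := by
  by_contra hne
  exact hMX (Proper4.le_monomial ⟨hq, hX, fun g hg a ha =>
    line_stabiliser4 (by simp) (by omega) hX hMI hne hg ha⟩)

omit hP in
/-- The stabiliser of four lines has no proper overgroup. -/
theorem lines4 {F : Type*} [Field F] [Fintype F] (hq : 7 ≤ Fintype.card F) {D : Fin 4 → Submodule F (Fin 4 → F)}
    (Θ : (Fin 4 → Fin 1 → F) ≃ₗ[F] (Fin 4 → F)) (hΘ : ∀ i v, v ∈ D i ↔ ∀ j, j ≠ i → Θ.symm v j = 0)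
    {M : Subgroup (Matrix.GeneralLinearGroup (Fin 4) F)}
    (hM : Cfsg.Geo.decompositionStabilizer D ⊓ Cfsg.Geo.specialLinear (Fin 4) F ≤ M)
    (hMI : M ≤ Cfsg.Geo.specialLinear (Fin 4) F) (hMX : ¬ M ≤ Cfsg.Geo.decompositionStabilizer D) :
    Cfsg.Geo.specialLinear (Fin 4) F ≤ M := by
  let L : (Fin 4 → F) ≃ₗ[F] (Fin 4 → F) :=
    (LinearEquiv.piCongrRight fun _ : Fin 4 => (LinearEquiv.funUnique (Fin 1) F F).symm).trans Θ
  let A := LinearMap.toMatrix' L.toLinearMap
  let B := LinearMap.toMatrix' L.symm.toLinearMap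
  let P : GL (Fin 4) F := ⟨A, B, by rw [← LinearMap.toMatrix'_comp]; simp,
    by rw [← LinearMap.toMatrix'_comp]; simp⟩
  have hP : ∀ v, (P : Matrix _ _ F) *ᵥ v = L v := fun v => LinearMap.toMatrix'_mulVec _ v
  have hL : ∀ v j, L.symm v j = Θ.symm v j 0 := fun v j => by simp [L, LinearEquiv.funUnique]
  have hmem : ∀ i v, v ∈ D i ↔ ∀ j, j ≠ i → L.symm v j = 0 := fun i v => by
    rw [hΘ]
    refine forall₂_congr fun j _ => ?_
    rw [hL]
    exact ⟨fun h => by rw [h]; rfl, fun h => funext fun l => by rw [Subsingleton.elim l 0]; exact h⟩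
  have hPinv : ∀ v, ((P⁻¹ : GL (Fin 4) F) : Matrix _ _ F) *ᵥ v = L.symm v := fun v =>
    LinearMap.toMatrix'_mulVec _ v
  have hline : ∀ i v, v ∈ D i ↔ ∃ a : F, v = a • L (Pi.single i 1) := fun i v => by
    rw [hmem]
    constructor
    · intro h
      refine ⟨L.symm v i, ?_⟩
      rw [← map_smul, ← LinearEquiv.symm_apply_eq]
      funext j
      by_cases hj : j = i
      · subst hj; simp
      · simp [hj, h j hj]
    · rintro ⟨a, rfl⟩ j hj
      simp [hj]
  have hconj : ∀ g : GL (Fin 4) F,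
      g ∈ Mono.monomialGroup (Fin 4) F ↔ P * g * P⁻¹ ∈ Cfsg.Geo.decompositionStabilizer D := by
    intro g
    have hact : ∀ i, ((P * g * P⁻¹ : GL (Fin 4) F) : Matrix _ _ F) *ᵥ L (Pi.single i 1) =
        L ((g : Matrix _ _ F) *ᵥ Pi.single i 1) := fun i => by
      rw [mul_mulVec, mul_mulVec, hPinv, hP, LinearEquiv.symm_apply_apply]
    constructor
    · rintro ⟨π, hπ⟩
      refine ⟨π, fun i => ?_⟩
      have hcol : (g : Matrix _ _ F) *ᵥ Pi.single i 1 = (g : Matrix _ _ F) (π i) i • Pi.single (π i) 1 :=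
        funext fun k => by
          rw [Matrix.mulVec_single_one, Pi.smul_apply, smul_eq_mul]
          by_cases hk : k = π i
          · subst hk; simp
          · rw [Pi.single_eq_of_ne hk, mul_zero]; exact hπ k i hk
      have hc0 : (g : Matrix _ _ F) (π i) i ≠ 0 := fun h0 => by
        rw [h0, zero_smul] at hcol
        have := congrArg (fun x => ((g⁻¹ : GL (Fin 4) F) : Matrix (Fin 4) (Fin 4) F) *ᵥ x) hcol
        simp only [inv_mulVec_mulVec, Matrix.mulVec_zero] at this
        exact one_ne_zero (Pi.single_eq_zero_iff.1 this)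
      ext v
      simp only [Submodule.mem_map, Matrix.toLin'_apply, hline]
      constructor
      · rintro ⟨_, ⟨a, rfl⟩, rfl⟩
        exact ⟨a * (g : Matrix _ _ F) (π i) i, by rw [Matrix.mulVec_smul, hact, hcol, map_smul, smul_smul]⟩
      · rintro ⟨a, rfl⟩
        refine ⟨_, ⟨a / (g : Matrix _ _ F) (π i) i, rfl⟩, ?_⟩
        rw [Matrix.mulVec_smul, hact, hcol, map_smul, smul_smul, div_mul_cancel₀ _ hc0]
    · rintro ⟨π, hπ⟩
      refine ⟨π, fun k i hk => ?_⟩
      have h : L ((g : Matrix _ _ F) *ᵥ Pi.single i 1) ∈ D (π i) := by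
        rw [← hact, ← hπ]
        exact ⟨_, (hline i _).2 ⟨1, (one_smul _ _).symm⟩, by rw [Matrix.toLin'_apply]⟩
      have := (hmem _ _).1 h k hk
      rw [LinearEquiv.symm_apply_apply, Matrix.mulVec_single_one] at this
      exact this
  have hSL : ∀ g : GL (Fin 4) F, P * g * P⁻¹ ∈ Cfsg.Geo.specialLinear (Fin 4) F ↔
      g ∈ Cfsg.Geo.specialLinear (Fin 4) F := fun g => by
    rw [mem_specialLinear, mem_specialLinear, Units.val_mul, Units.val_mul, Matrix.det_mul, Matrix.det_mul,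
      mul_comm, ← mul_assoc, ← Matrix.det_mul, Units.inv_mul, Matrix.det_one, one_mul]
  have hkey := key4 (M := M.comap (MulAut.conj P).toMonoidHom) hq
    (fun g hg => hM ⟨(hconj g).1 hg.1, (hSL g).2 hg.2⟩) (fun g hg => (hSL g).1 (hMI hg))
    (fun hle => hMX fun g hg => by
      have h := (hconj (P⁻¹ * g * P)).1 (hle (show P * (P⁻¹ * g * P) * P⁻¹ ∈ M by
        rwa [show P * (P⁻¹ * g * P) * P⁻¹ = g by group]))
      rwa [show P * (P⁻¹ * g * P) * P⁻¹ = g by group] at h)
  intro g hg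
  have h : P * (P⁻¹ * g * P) * P⁻¹ ∈ M := hkey ((hSL _).1 (by rwa [show P * (P⁻¹ * g * P) * P⁻¹ = g by group]))
  rwa [show P * (P⁻¹ * g * P) * P⁻¹ = g by group] at h

end CfsgLib.Geo.Mono4
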