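/-
Stabilisers of decompositions of a four-dimensional space into two planes are maximal in the special
linear group over at least four elements.
-/
import Cfsg.Agent.Geo.LinearDecomposition

set_option autoImplicit false

namespace CfsgLib.Geo.Decomp

open Matrix Cfsg Cfsg.Geo CfsgLib.Geo

variable {ι : Type} [Fintype ι] [DecidableEq ι] {F : Type*} [Field F] [Fintype F]

/-- Two additively generated multipliers separate the coordinates. -/
lemma exists_fourth (hq : 4 ≤ Fintype.card F) (h : ∀ c : F, c ≠ 0 → c ^ 4 = 1) :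
    Fintype.card F = 5 := by
  classical
  have hsub : (Finset.univ.erase (0 : F)) ⊆ (Polynomial.nthRoots 4 (1 : F)).toFinset := fun x hx =>
    Multiset.mem_toFinset.2 ((Polynomial.mem_nthRoots (by norm_num)).2 (h x (Finset.ne_of_mem_erase hx)))
  have h1 := (Finset.card_le_card hsub).trans
    ((Multiset.toFinset_card_le _).trans (Polynomial.card_nthRoots 4 1))
  rw [Finset.card_erase_of_mem (Finset.mem_univ _), Finset.card_univ] at h1
  by_contra h5
  have h4 : Fintype.card F = 4 := by omega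
  obtain ⟨c, hc⟩ : ∃ c : F, c ∉ ({0, 1} : Finset F) := by
    by_contra hc
    push Not at hc
    have := (Finset.card_le_card (fun x _ => hc x : (Finset.univ : Finset F) ⊆ {0, 1})).trans Finset.card_le_two
    rw [Finset.card_univ] at this
    omega
  simp only [Finset.mem_insert, Finset.mem_singleton, not_or] at hc
  have e3 := FiniteField.pow_card_sub_one_eq_one c hc.1
  rw [h4] at e3
  have e4 := h c hc.1
  rw [pow_succ, show c ^ 3 = 1 from e3, one_mul] at e4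
  exact hc.2 e4

variable {D : Fin 2 → Submodule F (ι → F)} (Θ : (Fin 2 → Fin 2 → F) ≃ₗ[F] (ι → F))
  (hΘ : ∀ i v, v ∈ D i ↔ ∀ j, j ≠ i → Θ.symm v j = 0)
  {M : Subgroup (GL ι F)} (hM : decompositionStabilizer D ⊓ specialLinear ι F ≤ M)
include hΘ hM

/-- A transvection with centre outside both planes gives one crossing them. -/
theorem exists_crossing_two (hdim : ∀ i, Module.finrank F (D i) = 2) (hq : 4 ≤ Fintype.card F)
    {v ψ : ι → F} (h : HasTv M v ψ) (hv : ∀ i, v ∉ D i) (hψ : ψ ≠ 0) :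
    ∃ (i l : Fin 2) (b χ c : ι → F), i ≠ l ∧ b ∈ D i ∧ b ≠ 0 ∧ HasTv M b χ ∧ c ∈ D l ∧ χ ⬝ᵥ c ≠ 0 := by
  classical
  have hm : 2 ≤ 2 := le_rfl
  have hp : ∀ i, proj Θ i v ≠ 0 := fun i h0 => by
    obtain ⟨j, hj, hu⟩ : ∃ j : Fin 2, j ≠ i ∧ ∀ k, k ≠ j → k = i := by clear h0; revert i; decide
    exact hv j (mem_of_proj Θ hΘ fun k hk => by rw [hu k hk]; exact h0)
  have hne01 : ∀ {φ : ι → F}, φ ≠ 0 → ∃ k, ∃ c ∈ D k, φ ⬝ᵥ c ≠ 0 := by
    intro φ hφ
    by_contra hc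
    push Not at hc
    refine hφ (funext fun i => ?_)
    rw [← dotProduct_single_one φ i, ← sum_proj Θ (Pi.single i 1), dotProduct_sum]
    exact Finset.sum_eq_zero fun k _ => hc k _ (proj_mem Θ hΘ k _)
  -- a member where the axis kills a vector off the component
  have good : ∀ (φ : ι → F), HasTv M v φ → ∀ l, ∀ b ∈ D l, b ≠ 0 → φ ⬝ᵥ b = 0 → proj Θ l v ∉ F ∙ b →
      (∃ k, k ≠ l ∧ ∃ c ∈ D k, φ ⬝ᵥ c ≠ 0) →
      ∃ (i l : Fin 2) (b χ c : ι → F), i ≠ l ∧ b ∈ D i ∧ b ≠ 0 ∧ HasTv M b χ ∧ c ∈ D l ∧ χ ⬝ᵥ c ≠ 0 := by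
    rintro φ hφ l b hb hb0 hφb hbv ⟨k, hkl, c, hc, hφc⟩
    exact ⟨l, k, b, φ, c, Ne.symm hkl, hb, hb0, (crossing_of_good Θ hΘ hM hφ hb hφb hbv hkl hc hφc).1, hc, hφc⟩
  have vanish : ∀ (φ : ι → F), HasTv M v φ → φ ≠ 0 → ∀ l, (∀ b ∈ D l, φ ⬝ᵥ b = 0) →
      ∃ (i l : Fin 2) (b χ c : ι → F), i ≠ l ∧ b ∈ D i ∧ b ≠ 0 ∧ HasTv M b χ ∧ c ∈ D l ∧ χ ⬝ᵥ c ≠ 0 := by
    intro φ hφ hφ0 l h0
    obtain ⟨b, hb, hbv⟩ := exists_indep Θ hΘ hM hm hdim l (proj Θ l v)
    have hb0 : b ≠ 0 := fun e => hbv (by rw [e]; exact Submodule.zero_mem _)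
    obtain ⟨k, c, hc, hφc⟩ := hne01 hφ0
    refine good φ hφ l b hb hb0 (h0 b hb) (fun e => ?_) ⟨k, fun e => hφc (h0 c (e ▸ hc)), c, hc, hφc⟩
    obtain ⟨d, hd⟩ := Submodule.mem_span_singleton.1 e
    have hd0 : d ≠ 0 := fun h' => hp l (by rw [← hd, h', zero_smul])
    exact hbv (Submodule.mem_span_singleton.2 ⟨d⁻¹, by rw [← hd, smul_smul, inv_mul_cancel₀ hd0, one_smul]⟩)
  by_cases hvan : ∃ l, ∀ b ∈ D l, ψ ⬝ᵥ b = 0
  · obtain ⟨l, hl⟩ := hvan
    exact vanish ψ h hψ l hl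
  push Not at hvan
  by_cases hgood : ∃ l, ∃ b ∈ D l, b ≠ 0 ∧ ψ ⬝ᵥ b = 0 ∧ proj Θ l v ∉ F ∙ b
  · obtain ⟨l, b, hb, hb0, hψb, hbv⟩ := hgood
    obtain ⟨k, hk⟩ : ∃ k : Fin 2, k ≠ l := exists_ne l
    exact good ψ h l b hb hb0 hψb hbv ⟨k, hk, hvan k⟩
  push Not at hgood
  -- on each plane the axis kills exactly the component
  have hbad : ∀ l, ψ ⬝ᵥ proj Θ l v = 0 ∧ ∃ w ∈ D l, ψ ⬝ᵥ w = 1 := by
    intro l
    obtain ⟨w, hw, hψw⟩ := hvan l
    obtain ⟨b, hb, hbw⟩ := exists_indep Θ hΘ hM hm hdim l w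
    set b' := b - ((ψ ⬝ᵥ b) / (ψ ⬝ᵥ w)) • w
    have hb' : b' ∈ D l := (D l).sub_mem hb ((D l).smul_mem _ hw)
    have hψb' : ψ ⬝ᵥ b' = 0 := by
      rw [dotProduct_sub, dotProduct_smul, smul_eq_mul, div_mul_cancel₀ _ hψw, sub_self]
    have hb'0 : b' ≠ 0 := fun e => hbw (by
      rw [sub_eq_zero.1 e]; exact Submodule.smul_mem _ _ (Submodule.mem_span_singleton_self w))
    obtain ⟨d, hd⟩ := Submodule.mem_span_singleton.1 (hgood l b' hb' hb'0 hψb')
    refine ⟨by rw [← hd, dotProduct_smul, hψb', smul_zero], (ψ ⬝ᵥ w)⁻¹ • w, (D l).smul_mem _ hw, ?_⟩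
    rw [dotProduct_smul, smul_eq_mul, inv_mul_cancel₀ hψw]
  choose ha w hw hw1 using hbad
  -- dual covectors on each plane
  have hwa : ∀ l, proj Θ l v ∉ F ∙ w l := fun l hc => by
    obtain ⟨d, hd⟩ := Submodule.mem_span_singleton.1 hc
    have e := ha l
    rw [← hd, dotProduct_smul, hw1, smul_eq_mul, mul_one] at e
    exact hp l (by rw [← hd, e, zero_smul])
  choose α hα hαw hαa using fun l => exists_block_covector Θ hΘ l (F ∙ w l) (proj_mem Θ hΘ l v)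
    ((Submodule.span_singleton_le_iff_mem _ _).2 (hw l)) (hwa l)
  set θ := fun l => res Θ ψ l with hθ
  have hθw : ∀ l, θ l ⬝ᵥ w l = 1 := fun l => by rw [hθ]; simp [res_of_mem Θ hΘ (hw l), hw1]
  have hθa : ∀ l k, θ l ⬝ᵥ proj Θ k v = 0 := fun l k => by
    rcases eq_or_ne l k with rfl | hlk
    · rw [hθ]; simp [res_of_mem Θ hΘ (proj_mem Θ hΘ l v), ha]
    · exact res_eq_zero Θ hΘ (Ne.symm hlk) (proj_mem Θ hΘ k v)
  have hθoff : ∀ l j, j ≠ l → ∀ x ∈ D j, θ l ⬝ᵥ x = 0 := fun l j hj x hx => res_eq_zero Θ hΘ hj hx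
  have h01 : (0 : Fin 2) ≠ 1 := by decide
  -- torus elements of the stabiliser scaling the centre
  have torus : ∀ (c x y : F), c ≠ 0 → x * y = (c ^ 4)⁻¹ → HasTv M v (x • θ 0 + y • θ 1) := by
    intro c x y hc hxy
    have hx : x ≠ 0 := fun h0 => by rw [h0, zero_mul] at hxy; exact inv_ne_zero (pow_ne_zero 4 hc) hxy.symm
    have hy : y ≠ 0 := fun h0 => by rw [h0, mul_zero] at hxy; exact inv_ne_zero (pow_ne_zero 4 hc) hxy.symm
    have hd : ∀ (μ : F) (u φ : ι → F), φ ⬝ᵥ u = 1 → μ ≠ 0 → 1 + φ ⬝ᵥ ((μ - 1) • u) ≠ 0 := fun μ u φ hu hμ => by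
      rw [dotProduct_smul, hu, smul_eq_mul, mul_one, add_sub_cancel]; exact hμ
    let d0 := Unit.dil _ _ (hd c _ _ (hαa 0) hc)
    let d1 := Unit.dil _ _ (hd c _ _ (hαa 1) hc)
    let e0 := Unit.dil _ _ (hd (c * x) _ _ (hθw 0) (mul_ne_zero hc hx))
    let e1 := Unit.dil _ _ (hd (c * y) _ _ (hθw 1) (mul_ne_zero hc hy))
    have hstab : d0 * d1 * e0 * e1 ∈ decompositionStabilizer D :=
      mul_mem (mul_mem (mul_mem
        (update_mem_stab Θ hΘ ((D 0).smul_mem _ (proj_mem Θ hΘ 0 v)) (hα 0) (Unit.dil_mulVec _ _ _))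
        (update_mem_stab Θ hΘ ((D 1).smul_mem _ (proj_mem Θ hΘ 1 v)) (hα 1) (Unit.dil_mulVec _ _ _)))
        (update_mem_stab Θ hΘ ((D 0).smul_mem _ (hw 0)) (hθoff 0) (Unit.dil_mulVec _ _ _)))
        (update_mem_stab Θ hΘ ((D 1).smul_mem _ (hw 1)) (hθoff 1) (Unit.dil_mulVec _ _ _))
    have hg : d0 * d1 * e0 * e1 ∈ M := hM ⟨hstab, mem_specialLinear.2 (by
      rw [Units.val_mul, Units.val_mul, Units.val_mul, Matrix.det_mul, Matrix.det_mul, Matrix.det_mul,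
        Unit.det_dil, Unit.det_dil, Unit.det_dil, Unit.det_dil, dotProduct_smul, dotProduct_smul, dotProduct_smul,
        dotProduct_smul, hαa, hαa, hθw, hθw]
      simp only [smul_eq_mul, mul_one, add_sub_cancel]
      rw [show c * c * (c * x) * (c * y) = c ^ 4 * (x * y) by ring, hxy, mul_inv_cancel₀ (pow_ne_zero 4 hc)])⟩
    have hα10 : α 1 ⬝ᵥ proj Θ 0 v = 0 := hα 1 0 h01 _ (proj_mem Θ hΘ 0 v)
    have hα01 : α 0 ⬝ᵥ proj Θ 1 v = 0 := hα 0 1 h01.symm _ (proj_mem Θ hΘ 1 v)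
    have hsum : v = proj Θ 0 v + proj Θ 1 v := by
      conv_lhs => rw [← sum_proj Θ v, Fin.sum_univ_two]
    have hθv : ∀ l, θ l ⬝ᵥ v = 0 := fun l => by rw [hsum, dotProduct_add, hθa, hθa, add_zero]
    have hαv : ∀ l, α l ⬝ᵥ v = 1 := fun l => by
      rw [hsum, dotProduct_add]
      fin_cases l
      · simp only [Fin.zero_eta, Fin.isValue]; rw [hαa, hα01, add_zero]
      · simp only [Fin.mk_one, Fin.isValue]; rw [hα10, hαa, zero_add]
    have hgv : ((d0 * d1 * e0 * e1 : GL ι F) : Matrix ι ι F) *ᵥ v = c • v := by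
      simp only [d0, d1, e0, e1, mul_mulVec, Unit.dil_mulVec, hθv, zero_smul, add_zero, hαv, dotProduct_add,
        dotProduct_smul, one_smul, hα01, smul_zero]
      conv_rhs => rw [hsum, smul_add]
      nth_rw 1 [hsum]
      module
    have hψg : ∀ u, ψ ⬝ᵥ (((d0 * d1 * e0 * e1 : GL ι F) : Matrix ι ι F) *ᵥ u) =
        (c * x) * (θ 0 ⬝ᵥ u) + (c * y) * (θ 1 ⬝ᵥ u) := by
      intro u
      have hψsplit : ψ ⬝ᵥ u = θ 0 ⬝ᵥ u + θ 1 ⬝ᵥ u := by
        conv_lhs => rw [← sum_res Θ ψ, Fin.sum_univ_two, add_dotProduct]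
      simp only [d0, d1, e0, e1, mul_mulVec, Unit.dil_mulVec, dotProduct_add, dotProduct_smul, smul_eq_mul,
        ha, hw1, hθoff 0 1 h01.symm _ (hw 1), hψsplit]
      ring
    have h2 := h.conj (g := (d0 * d1 * e0 * e1)⁻¹) (M.inv_mem hg)
    rw [inv_inv] at h2
    have e2 : ((d0 * d1 * e0 * e1)⁻¹ : GL ι F).val *ᵥ v = c⁻¹ • v := by
      conv_lhs => rw [show v = ((d0 * d1 * e0 * e1 : GL ι F) : Matrix ι ι F) *ᵥ (c⁻¹ • v) by
        rw [Matrix.mulVec_smul, hgv, smul_smul, inv_mul_cancel₀ hc, one_smul]]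
      exact inv_mulVec_mulVec _ _
    rw [e2, hasTv_smul_iff _ (inv_ne_zero hc)] at h2
    convert h2 using 1
    refine dotProduct_eq _ _ fun u => ?_
    rw [smul_dotProduct (c⁻¹) (ψ ᵥ* _), ← Matrix.dotProduct_mulVec, hψg, add_dotProduct, smul_dotProduct,
      smul_dotProduct, smul_eq_mul, smul_eq_mul, smul_eq_mul]
    field_simp
  have h11 : HasTv M v (θ 0 + θ 1) := by
    have := torus 1 1 1 one_ne_zero (by simp)
    rwa [one_smul, one_smul] at this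
  obtain ⟨k, hk, hkt⟩ : ∃ k : F, k ≠ 0 ∧ HasTv M v (k • θ 1) := by
    by_cases hall : ∀ c : F, c ≠ 0 → c ^ 4 = 1
    · have h5 := exists_fourth hq hall
      have h50 : (5 : F) = 0 := by
        have := FiniteField.cast_card_eq_zero F
        rw [h5] at this; exact_mod_cast this
      refine ⟨1, one_ne_zero, ?_⟩
      have h23 := torus 1 2 3 one_ne_zero (by rw [one_pow, inv_one]; linear_combination h50)
      have h3 := (h23.sub_axis h11).sub_axis h11
      convert h3 using 1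
      module
    · push Not at hall
      obtain ⟨c, hc, hc4⟩ := hall
      refine ⟨(c ^ 4)⁻¹ - 1, sub_ne_zero.2 fun e => hc4 (inv_eq_one.1 e), ?_⟩
      have h3 := (torus c 1 (c ^ 4)⁻¹ hc (one_mul _)).sub_axis h11
      convert h3 using 1
      module
  refine vanish _ hkt (fun e => hk ?_) 0 fun b hb => ?_
  · have := congrArg (fun φ => φ ⬝ᵥ w 1) e
    simpa [hθw] using this
  · rw [smul_dotProduct, hθoff 1 0 h01 b hb, smul_zero]

/-- The stabiliser has no proper overgroup. -/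
theorem key_two (hD : IsMDecomposition 2 D) (hq : 4 ≤ Fintype.card F) (hMI : M ≤ specialLinear ι F) (hMX : ¬ M ≤ decompositionStabilizer D) :
    specialLinear ι F ≤ M := by
  have hdim := hD.finrank_eq
  have hm : 2 ≤ 2 := le_rfl
  obtain ⟨g, hg, hgX⟩ := SetLike.not_le_iff_exists.1 hMX
  obtain ⟨i0, a, ha, hga⟩ : ∃ i, ∃ a ∈ D i, ∀ j, (g : Matrix ι ι F) *ᵥ a ∉ D j := by
    by_contra hc
    push Not at hc
    have hmap : ∀ i, ∃ j, (D i).map (glEquiv g).toLinearMap ≤ D j := fun i =>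
      le_one_member Θ hΘ i (fun x hx => by
        obtain ⟨v, hv, rfl⟩ := hx
        obtain ⟨j, hj⟩ := hc i v hv
        exact ⟨j, by rw [LinearEquiv.coe_coe, glEquiv_apply]; exact hj⟩)
    choose σ hσ using hmap
    have he : ∀ i, (D i).map (glEquiv g).toLinearMap = D (σ i) := fun i =>
      Submodule.eq_of_le_of_finrank_le (hσ i) (by rw [hdim, LinearEquiv.finrank_map_eq (glEquiv g) (D i), hdim])
    have hinj : Function.Injective σ := by
      intro i j hij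
      by_contra hne
      have h1 : D i = D j := Submodule.map_injective_of_injective (glEquiv g).injective (by rw [he, he, hij])
      obtain ⟨x, hx, hx0⟩ := exists_indep Θ hΘ hM hm hdim i 0
      refine hx0 ?_
      rw [← proj_of_mem Θ hΘ hx, proj_of_mem_ne Θ hΘ hne (h1 ▸ hx : x ∈ D j)]
      exact Submodule.zero_mem _
    refine hgX ⟨Equiv.ofBijective σ hinj.bijective_of_finite, fun i => ?_⟩
    have e : Matrix.toLin' (g : Matrix ι ι F) = (glEquiv g).toLinearMap :=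
      LinearMap.ext fun x => by simp [Matrix.toLin'_apply]
    rw [e]; exact he i
  have ha0 : a ≠ 0 := fun e => hga i0 (by rw [e, Matrix.mulVec_zero]; exact Submodule.zero_mem _)
  obtain ⟨w, hw, hwa⟩ := exists_indep Θ hΘ hM hm hdim i0 a
  obtain ⟨φ, hφ, hφa, hφw⟩ := exists_block_covector Θ hΘ i0 (F ∙ a) hw
    (by rw [Submodule.span_singleton_le_iff_mem]; exact ha) hwa
  have hv := (hasTv_block Θ hΘ hM ha hφ (hφa a (Submodule.mem_span_singleton_self a))).conj hg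
  obtain ⟨i, l, b, χ, c, hil, hb, hb0, hbχ, hc, hχc⟩ := exists_crossing_two Θ hΘ hM hdim hq hv hga (fun e => by
    have h1 := vecMul_dotProduct_mulVec φ g w
    rw [e, zero_dotProduct, hφw] at h1
    exact zero_ne_one h1)
  have hpair := full_pair Θ hΘ hM hm hdim hil hb hb0 hbχ hc hχc
  have hall : ∀ i' l', i' ≠ l' → ∀ x ∈ D i', ∀ θ : ι → F, (∀ j, j ≠ l' → ∀ v ∈ D j, θ ⬝ᵥ v = 0) →
      HasTv M x θ := by
    intro i' l' hne x hx θ hθ
    obtain ⟨y, hy, hy1, hy2⟩ := exists_pair_map Θ hΘ hM hm hdim hil hne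
    have hθ' : ∀ j, j ≠ l → ∀ v ∈ D j, (θ ᵥ* (y : Matrix ι ι F)) ⬝ᵥ v = 0 := by
      intro j hj v hv
      obtain ⟨j', hj', hm'⟩ := hy2 j hj v hv
      rw [← Matrix.dotProduct_mulVec]
      exact hθ j' hj' _ hm'
    have h1 := (hpair _ (hy1 x hx) _ hθ').conj hy
    rwa [mulVec_inv_mulVec, Matrix.vecMul_vecMul, ← Units.val_mul, mul_inv_cancel, Units.val_one,
      Matrix.vecMul_one] at h1
  have hfull : ∀ i', ∀ x ∈ D i', x ∈ fullSubmodule M := by
    intro i' x hx θ hθ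
    rw [← sum_res Θ θ]
    refine Finset.sum_induction _ (HasTv M x) (fun _ _ h1 h2 => h1.add_axis h2) (hasTv_zero_right M x)
      fun k _ => ?_
    by_cases hk : i' = k
    · subst hk
      exact hasTv_block Θ hΘ hM hx (fun j hj v hv => res_eq_zero Θ hΘ hj hv) (by rw [res_of_mem Θ hΘ hx]; exact hθ)
    · exact hall i' k hk x hx _ fun j hj v hv => res_eq_zero Θ hΘ hj hv
  refine specialLinear_le_of_fullSubmodule (eq_top_iff.2 ?_)
  rw [← hD.iSup_eq_top, iSup_le_iff]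
  exact fun i' x hx => hfull i' x hx

end CfsgLib.Geo.Decomp
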