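import Cfsg.Agent.Geo.OrthFrame.Basic
import Cfsg.Agent.Elusive.PauliFrame
import Cfsg.Agent.Quad.Klein

/-!
Six frame vectors of the Klein quadric and the action of the standard generators of a symplectic-type
group of order 64 on them.
-/

set_option autoImplicit false
set_option linter.unusedSectionVars false

namespace CfsgLib.Geo.SLFour

open Matrix CfsgLib.Quad CfsgLib.Elusive.Pauli

variable {F K : Type*} [Field F] [Field K] [Algebra F K] {i : K}

local notation "ι" => algebraMap F K

/-- Six coordinates inside the Klein quadric. -/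
def theta (i : K) : (Fin 6 → F) →ₗ[F] (Fin 3 ⊕ Fin 3 → K) where
  toFun x := Sum.elim ![ι (x 0) + i * ι (x 1), ι (x 2) + i * ι (x 3), ι (x 4) + i * ι (x 5)]
    ![ι (x 0) - i * ι (x 1), ι (x 2) - i * ι (x 3), ι (x 4) - i * ι (x 5)]
  map_add' x y := by
    funext j; rcases j with j | j <;> fin_cases j <;> simp <;> ring
  map_smul' c x := by
    funext j; rcases j with j | j <;> fin_cases j <;> simp [Algebra.smul_def] <;> ring

/-- The alternating matrix of six coordinates. -/
def mat (i : K) : (Fin 6 → F) →ₗ[F] Matrix (Fin 4) (Fin 4) K :=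
  ((klein (K := K)).restrictScalars F).comp (theta i)

theorem mat_apply (x : Fin 6 → F) : mat i x = klein (theta i x) := rfl

theorem plusQ_theta (hi : i * i = -1) (x : Fin 6 → F) :
    plusQ (F := K) 3 (theta i x) = ι (OFrame.Q0 F 6 x) := by
  simp [plusQ_coe, Cfsg.quadFormPlus, theta, OFrame.Q0_apply, dotProduct, Fin.sum_univ_three,
    Fin.sum_univ_six, map_add, map_mul]
  linear_combination (-(ι (x 1) * ι (x 1) + ι (x 3) * ι (x 3) + ι (x 5) * ι (x 5))) * hi

theorem theta_injective (h2 : (2 : K) ≠ 0) (hi : i * i = -1) :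
    Function.Injective (theta (F := F) i) := by
  rw [injective_iff_map_eq_zero]
  intro x hx
  have hi0 : i ≠ 0 := fun h => by rw [h, mul_zero] at hi; exact neg_ne_zero.2 one_ne_zero hi.symm
  have key : ∀ u v : F, ι u + i * ι v = 0 → ι u - i * ι v = 0 → u = 0 ∧ v = 0 := fun u v h1 h2' => by
    have hu : ι u = 0 := (mul_eq_zero.1 (show (2 : K) * ι u = 0 by linear_combination h1 + h2')).resolve_left h2
    have hv : ι v = 0 := by
      rw [hu, zero_add] at h1
      exact (mul_eq_zero.1 h1).resolve_left hi0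
    exact ⟨(algebraMap F K).injective (hu.trans (map_zero _).symm),
      (algebraMap F K).injective (hv.trans (map_zero _).symm)⟩
  have h0 := key (x 0) (x 1) (congrFun hx (Sum.inl 0)) (congrFun hx (Sum.inr 0))
  have h1 := key (x 2) (x 3) (congrFun hx (Sum.inl 1)) (congrFun hx (Sum.inr 1))
  have h3 := key (x 4) (x 5) (congrFun hx (Sum.inl 2)) (congrFun hx (Sum.inr 2))
  funext j
  fin_cases j <;> simp [h0, h1, h3]

theorem mat_injective (h2 : (2 : K) ≠ 0) (hi : i * i = -1) : Function.Injective (mat (F := F) i) :=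
  klein_injective.comp (theta_injective h2 hi)

/-- Only the signs fix all six matrices under congruence. -/
theorem eq_pm_of_mat_fixed (h2 : (2 : K) ≠ 0) (hi : i * i = -1) {g : Matrix (Fin 4) (Fin 4) K}
    (h : ∀ x : Fin 6 → F, g * mat i x * gᵀ = mat i x) : g = 1 ∨ g = -1 := by
  refine eq_pm_of_congr_klein fun p => ?_
  set c : Fin 6 → K := ![(p (Sum.inl 0) + p (Sum.inr 0)) / 2, (p (Sum.inr 0) - p (Sum.inl 0)) * i / 2,
    (p (Sum.inl 1) + p (Sum.inr 1)) / 2, (p (Sum.inr 1) - p (Sum.inl 1)) * i / 2,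
    (p (Sum.inl 2) + p (Sum.inr 2)) / 2, (p (Sum.inr 2) - p (Sum.inl 2)) * i / 2] with hc
  have hp : p = ∑ j, c j • theta i (Pi.single j (1 : F)) := by
    funext s
    rw [Finset.sum_apply, Fin.sum_univ_six]
    rcases s with s | s <;> fin_cases s <;> simp [theta, c] <;> field_simp
    · linear_combination (p (Sum.inl 0) - p (Sum.inr 0)) * hi
    · linear_combination (p (Sum.inl 1) - p (Sum.inr 1)) * hi
    · linear_combination (p (Sum.inl 2) - p (Sum.inr 2)) * hi
    · linear_combination (p (Sum.inr 0) - p (Sum.inl 0)) * hi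
    · linear_combination (p (Sum.inr 1) - p (Sum.inl 1)) * hi
    · linear_combination (p (Sum.inr 2) - p (Sum.inl 2)) * hi
  rw [hp, map_sum, Matrix.mul_sum, Matrix.sum_mul]
  refine Finset.sum_congr rfl fun j _ => ?_
  rw [map_smul, Matrix.mul_smul, Matrix.smul_mul, ← mat_apply, h]

/-- Negate the coordinates in a set. -/
def fl (S : Finset (Fin 6)) (x : Fin 6 → F) : Fin 6 → F := fun j => if j ∈ S then -x j else x j

theorem congr_A₁ (x : Fin 6 → F) : A₁ K * mat i x * (A₁ K)ᵀ = mat i (fl {2, 3, 4, 5} x) := by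
  rw [mat_apply, mat_apply]
  ext a b
  fin_cases a <;> fin_cases b <;> simp [A₁, klein, theta, fl, Matrix.diagonal_mul, Matrix.mul_diagonal] <;> ring

theorem congr_A₂ (x : Fin 6 → F) : A₂ K * mat i x * (A₂ K)ᵀ = mat i (fl {0, 1, 4, 5} x) := by
  rw [mat_apply, mat_apply]
  ext a b
  fin_cases a <;> fin_cases b <;> simp [A₂, klein, theta, fl, Matrix.diagonal_mul, Matrix.mul_diagonal] <;> ring

theorem congr_B₁ (x : Fin 6 → F) : B₁ K * mat i x * (B₁ K)ᵀ = mat i (fl {1, 2, 3, 4} x) := by
  rw [mat_apply, mat_apply]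
  ext a b
  fin_cases a <;> fin_cases b <;> simp [B₁, klein, theta, fl, Matrix.mul_apply, Fin.sum_univ_four] <;> ring

theorem congr_B₂ (x : Fin 6 → F) : B₂ K * mat i x * (B₂ K)ᵀ = mat i (fl {0, 1, 2, 5} x) := by
  rw [mat_apply, mat_apply]
  ext a b
  fin_cases a <;> fin_cases b <;> simp [B₂, klein, theta, fl, Matrix.mul_apply, Fin.sum_univ_four] <;> ring

theorem congr_scalar {c : K} (hc : c * c = -1) (x : Fin 6 → F) :
    (c • (1 : Matrix (Fin 4) (Fin 4) K)) * mat i x * (c • (1 : Matrix (Fin 4) (Fin 4) K))ᵀ =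
      mat i (fl Finset.univ x) := by
  rw [Matrix.transpose_smul, Matrix.transpose_one, smul_mul_assoc, one_mul, mul_smul_comm, mul_one,
    smul_smul, hc, neg_one_smul, ← map_neg]
  congr 1
  funext j
  simp [fl]

end CfsgLib.Geo.SLFour
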