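/-
Overgroups of the unitary similarity group in dimension at least four.
-/
import Cfsg.Agent.Geo.UnitaryOvergroup
import Cfsg.Agent.Forms.Classify

set_option autoImplicit false

namespace CfsgLib.Geo.Unit4

open Matrix Cfsg Cfsg.Geo CfsgLib.Geo CfsgLib.Geo.Unit

variable {ι : Type} [Fintype ι] [DecidableEq ι] {F : Type*} [Field F]
  {σ : F ≃+* F} {f : (ι → F) → (ι → F) → F} (hf : IsUnitaryForm σ f)
include hf

/-- The torus element of a hyperbolic pair. -/
lemma exists_hyp_torus {a b : ι → F} (ha : f a a = 0) (hb : f b b = 0) (hab : f a b = 1) {ρ : F} (hρ : ρ ≠ 0) :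
    ∃ g : GL ι F, (g : Matrix ι ι F).det = ρ * (σ ρ)⁻¹ ∧
      (∀ u v, f ((g : Matrix ι ι F) *ᵥ u) ((g : Matrix ι ι F) *ᵥ v) = f u v) ∧
      (g : Matrix ι ι F) *ᵥ a = ρ • a ∧ (g : Matrix ι ι F) *ᵥ b = (σ ρ)⁻¹ • b ∧
      ∀ y, f y a = 0 → f y b = 0 → (g : Matrix ι ι F) *ᵥ y = y := by
  have L := linLeft hf
  have hσρ : σ ρ ≠ 0 := (map_ne_zero σ).2 hρ
  have hba : f b a = 1 := by rw [hf.herm, hab, map_one]
  have e1 : (((ρ - 1) • axisOf f b) : ι → F) ⬝ᵥ a = ρ - 1 := by rw [smul_dotProduct, L.dot, hab]; simp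
  have e2 : ((((σ ρ)⁻¹ - 1) • axisOf f a) : ι → F) ⬝ᵥ b = (σ ρ)⁻¹ - 1 := by
    rw [smul_dotProduct, L.dot, hba]; simp
  set g : GL ι F := dil a ((ρ - 1) • axisOf f b) (by rw [e1, add_sub_cancel]; exact hρ) *
    dil b (((σ ρ)⁻¹ - 1) • axisOf f a) (by rw [e2, add_sub_cancel]; exact inv_ne_zero hσρ) with hg
  have happ : ∀ y, (g : Matrix ι ι F) *ᵥ y =
      y + (((σ ρ)⁻¹ - 1) * f y a) • b + ((ρ - 1) * f y b) • a := fun y => by
    simp only [hg, mul_mulVec, dil_mulVec, smul_dotProduct, L.dot, smul_eq_mul, hf.add_left,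
      hf.smul_left, hb, mul_zero, add_zero]
  refine ⟨g, ?_, fun u v => ?_, ?_, ?_, fun y h1 h2 => ?_⟩
  · rw [hg, Units.val_mul, Matrix.det_mul, det_dil, det_dil, e1, e2]; ring
  · have k : (σ ρ)⁻¹ * σ ρ = 1 := inv_mul_cancel₀ hσρ
    have k' : ρ⁻¹ * ρ = 1 := inv_mul_cancel₀ hρ
    rw [happ, happ]
    simp only [hf.add_left, add_right hf, hf.smul_left, smul_right hf, map_mul, ← hf.herm, map_sub,
      map_one, map_inv₀, hf.involutive ρ, ha, hb, hab, hba, mul_zero, add_zero, zero_add, mul_one]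
    linear_combination (f u a * f b v) * k + (f u b * f a v) * k'
  · rw [happ, ha, hab]; module
  · rw [happ, hba, hb]; module
  · rw [happ, h1, h2]; simp

variable [Finite F]

/-- An anisotropic vector orthogonal to an anisotropic vector and an isotropic one. -/
lemma exists_anisotropic_perp_two {a w : ι → F} (ha : f a a ≠ 0) (haw : f a w = 0) (h : 4 ≤ Fintype.card ι) :
    ∃ y, f y y ≠ 0 ∧ ∀ j, f y (![a, w] j) = 0 := by
  by_contra hcon
  push Not at hcon
  let R : (ι → F) →ₗ[F] (Fin 2 → F) := LinearMap.pi fun j => (linLeft hf).toLin (![a, w] j)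
  have h1 := R.finrank_range_add_finrank_ker
  have h2 : Module.finrank F (LinearMap.range R) ≤ 2 := by
    simpa using Submodule.finrank_le (LinearMap.range R)
  rw [Module.finrank_fintype_fun_eq_card] at h1
  have hiso : ∀ t ∈ LinearMap.ker R, f t t = 0 := fun t ht => by
    by_contra h0
    obtain ⟨j, hj⟩ := hcon t h0
    exact hj (congrFun (LinearMap.mem_ker.1 ht) j)
  have hta : ∀ t ∈ LinearMap.ker R, f t a = 0 := fun t ht => congrFun (LinearMap.mem_ker.1 ht) 0
  have hlt : LinearMap.ker R < LinearMap.ker R ⊔ (F ∙ a) := lt_of_le_of_ne le_sup_left fun e => ha (hiso a (by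
    rw [e]; exact Submodule.mem_sup_right (Submodule.mem_span_singleton_self a)))
  have h3 := Submodule.finrank_lt_finrank_of_lt hlt
  have h4 := finrank_add_le_of_perp hf (T := LinearMap.ker R) (S := LinearMap.ker R ⊔ (F ∙ a))
    (fun t ht s hs => by
      obtain ⟨s₁, hs₁, s₂, hs₂, rfl⟩ := Submodule.mem_sup.1 hs
      obtain ⟨c, rfl⟩ := Submodule.mem_span_singleton.1 hs₂
      rw [add_right hf, smul_right hf, eq_zero_of_totally_isotropic hf hiso t ht s₁ hs₁, hta t ht, mul_zero,
        add_zero])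
  omega

variable {M : Subgroup (GL ι F)} (hM : similarityGroup f ⊓ specialLinear ι F ≤ M) (h7 : 4 ≤ Fintype.card ι)
include hM h7

/-- All multiples of an isotropic axis, via two torus elements. -/
lemma hasTv_smul_axis {a w : ι → F} (ha : f a a = 0) (hw : f w w = 0) (hwa : w ∉ F ∙ a)
    (hu : HasTv M a (axisOf f w)) (d : F) : HasTv M a (axisOf f (d • w)) := by
  have L := linLeft hf
  have haw : f a w = 0 := by rw [← L.dot]; exact hu.1
  rcases eq_or_ne a 0 with rfl | ha0
  · exact hasTv_zero_left M _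
  have haw' : a ∉ F ∙ w := by
    intro h
    obtain ⟨e, he⟩ := Submodule.mem_span_singleton.1 h
    rcases eq_or_ne e 0 with rfl | he0
    · exact ha0 (by simpa using he.symm)
    · exact hwa (Submodule.mem_span_singleton.2 ⟨e⁻¹, by rw [← he, smul_smul, inv_mul_cancel₀ he0, one_smul]⟩)
  obtain ⟨b₀, hwb₀, hab₀⟩ := exists_f_eq hf haw'
  obtain ⟨t, ht⟩ := exists_trace_eq hf.ne_refl hf.involutive (t := -f b₀ b₀) (by rw [map_neg, sigma_self hf])
  obtain ⟨b, hbdef⟩ : ∃ b, b = b₀ + t • a := ⟨_, rfl⟩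
  have hwa0 : f w a = 0 := by rw [hf.herm, haw, map_zero]
  have hb₀a : f b₀ a = 1 := by rw [hf.herm, hab₀, map_one]
  have hbb : f b b = 0 := by
    rw [hbdef]
    simp only [hf.add_left, add_right hf, hf.smul_left, smul_right hf, ha, hab₀, hb₀a]
    linear_combination ht
  have hab : f a b = 1 := by simp [hbdef, add_right hf, smul_right hf, hab₀, ha]
  have hba : f b a = 1 := by rw [hf.herm, hab, map_one]
  have hwb : f w b = 0 := by simp [hbdef, add_right hf, smul_right hf, hwb₀, hwa0]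
  have hbw : f b w = 0 := by rw [hf.herm, hwb, map_zero]
  obtain ⟨w₀, haw₀, hww₀⟩ := exists_f_eq hf hwa
  obtain ⟨w₁, hw₁def⟩ : ∃ w₁, w₁ = w₀ + (-σ (f b w₀)) • a := ⟨_, rfl⟩
  have haw₁ : f a w₁ = 0 := by rw [hw₁def, add_right hf, smul_right hf]; simp [haw₀, ha]
  have hbw₁ : f b w₁ = 0 := by rw [hw₁def, add_right hf, smul_right hf]; simp [hba, hf.involutive (f b w₀)]
  have hww₁ : f w w₁ = 1 := by rw [hw₁def, add_right hf, smul_right hf]; simp [hww₀, hwa0]
  obtain ⟨t', ht'⟩ := exists_trace_eq hf.ne_refl hf.involutive (t := -f w₁ w₁) (by rw [map_neg, sigma_self hf])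
  obtain ⟨w', hw'def⟩ : ∃ w', w' = w₁ + t' • w := ⟨_, rfl⟩
  have haw'0 : f a w' = 0 := by simp [hw'def, add_right hf, smul_right hf, haw₁, haw]
  have hbw' : f b w' = 0 := by simp [hw'def, add_right hf, smul_right hf, hbw₁, hbw]
  have hww' : f w w' = 1 := by simp [hw'def, add_right hf, smul_right hf, hww₁, hw]
  have hw'w' : f w' w' = 0 := by
    simp only [hw'def, hf.add_left, add_right hf, hf.smul_left, smul_right hf, hw, hww₁,
      hf.herm w₁ w, map_one]
    linear_combination ht'
  -- squares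
  have hsq : ∀ x : F, HasTv M a (axisOf f ((x * x) • w)) := by
    intro x
    rcases eq_or_ne x 0 with rfl | hx
    · rw [zero_mul, zero_smul, axisOf_zero hf]; exact hasTv_zero_right M a
    have hσx : σ x ≠ 0 := (map_ne_zero σ).2 hx
    obtain ⟨g₁, hd₁, hi₁, ha₁, -, hfix₁⟩ := exists_hyp_torus hf ha hbb hab hσx
    obtain ⟨g₂, hd₂, hi₂, hw₂, -, hfix₂⟩ := exists_hyp_torus hf hw hw'w' hww' hx
    have hga : ((g₁ * g₂ : GL ι F) : Matrix ι ι F) *ᵥ a = σ x • a := by
      rw [mul_mulVec, hfix₂ a haw haw'0, ha₁]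
    have hgw : ((g₁ * g₂ : GL ι F) : Matrix ι ι F) *ᵥ w = x • w := by
      rw [mul_mulVec, hw₂, Matrix.mulVec_smul, hfix₁ w hwa0 hwb]
    have h1 := hasTv_axis_conj hf hM (g := g₁ * g₂) (fun u v => by rw [mul_mulVec, mul_mulVec, hi₁, hi₂])
      (by rw [Units.val_mul, Matrix.det_mul, hd₁, hd₂, hf.involutive]; field_simp) hu
    rw [hga, hgw, hasTv_smul_iff (σ x) hσx] at h1
    rwa [show σ x • axisOf f (x • w) = axisOf f ((x * x) • w) by
      rw [axisOf_smul hf, axisOf_smul hf, smul_smul, map_mul]] at h1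
  obtain ⟨x, y, rfl⟩ : ∃ x y : F, d = x * x + y * y := by
    by_cases h2 : (2 : F) = 0
    · haveI : CharP F 2 := CharTwo.of_one_ne_zero_of_two_eq_zero one_ne_zero h2
      obtain ⟨x, hx⟩ := FiniteField.isSquare_of_char_two (ringChar.eq F 2) d
      exact ⟨x, 0, by rw [hx, mul_zero, add_zero]⟩
    · obtain ⟨x, y, h⟩ := CfsgLib.Forms.exists_binary h2 one_ne_zero one_ne_zero d
      exact ⟨x, y, by linear_combination -h⟩
  rw [add_smul, axisOf_add hf]
  exact (hsq x).add_axis (hsq y)

lemma fullAt_of_axis {a u : ι → F} (ha : f a a = 0) (ha0 : a ≠ 0) (hua : u ∉ F ∙ a)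
    (hu : HasTv M a (axisOf f u)) : FullAt M a := by
  have L := linLeft hf
  obtain ⟨c, hc0, hc⟩ := exists_skew hf.ne_refl hf.involutive
  obtain ⟨z, x, hz, hzx, hza, hxa⟩ := exists_isotropic_perp hf ![a] (by omega)
  have hza : f a z = 0 := by rw [hf.herm, show f z a = 0 from hza 0, map_zero]
  have hxa : f a x = 0 := by rw [hf.herm, show f x a = 0 from hxa 0, map_zero]
  let S : Submodule F (ι → F) :=
    { carrier := {v | f a v = 0}
      add_mem' := fun {p q} hp hq => by
        simp only [Set.mem_ofPred_eq] at *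
        rw [add_right hf, hp, hq, add_zero]
      zero_mem' := zero_right hf a
      smul_mem' := fun e v hv => by
        simp only [Set.mem_ofPred_eq] at *
        rw [smul_right hf, hv, mul_zero] }
  obtain ⟨w, hwS, hww, huw⟩ : ∃ w, f a w = 0 ∧ f w w = 0 ∧ f u w ≠ 0 := by
    by_contra hcon
    push Not at hcon
    let T : Submodule F (ι → F) := LinearMap.ker (L.toLin u)
    have hST : ∀ v, f a v = 0 → f v u = 0 := fun v hv =>
      LinearMap.mem_ker.1 ((mem_of_isotropic hf (S := S) (T := T) hza hxa hz hzx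
        fun y hy hyy => LinearMap.mem_ker.2 (by
          change f y u = 0
          rw [hf.herm, hcon y hy hyy, map_zero])) hv)
    obtain ⟨b, hub, hab⟩ : ∃ b, f u b = 0 ∧ f a b = 1 := exists_f_eq hf (by
      intro h
      obtain ⟨e, he⟩ := Submodule.mem_span_singleton.1 h
      rcases eq_or_ne e 0 with rfl | he0
      · exact ha0 (by simpa using he.symm)
      · exact hua (Submodule.mem_span_singleton.2 ⟨e⁻¹, by rw [← he, smul_smul, inv_mul_cancel₀ he0, one_smul]⟩))
    apply hua
    have hu0 : u = 0 := eq_zero_of_axis hf (funext fun i => by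
      have h1 := hST (Pi.single i 1 - σ (f a (Pi.single i 1)) • b) (by
        rw [sub_eq_add_neg, ← neg_smul, add_right hf, smul_right hf, hab, map_neg, hf.involutive]
        ring)
      rw [L.sub_left, hf.smul_left, hf.herm b u, hub, map_zero, mul_zero, sub_zero] at h1
      simpa [axisOf] using h1)
    rw [hu0]; exact Submodule.zero_mem _
  have hcu : c * f u w ≠ 0 := mul_ne_zero hc0 huw
  have hwa' : w ∉ F ∙ a := by
    intro h
    obtain ⟨e, rfl⟩ := Submodule.mem_span_singleton.1 h
    have hua0 : f u a = 0 := by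
      rw [hf.herm, show f a u = 0 by rw [← L.dot]; exact hu.1, map_zero]
    exact huw (by rw [smul_right hf, hua0, mul_zero])
  have hw1 := hasTv_tv_shift hf hM hww hc hwS hu
  have hline : ∀ d : F, HasTv M a (axisOf f (d • w)) := by
    intro d
    have h1 := hasTv_smul_axis hf hM h7 ha
      (w := (c * f u w) • w) (by simp [hf.smul_left, smul_right hf, hww])
      (fun h => hwa' ((Submodule.smul_mem_iff (F ∙ a) hcu).1 h)) hw1 (d / (c * f u w))
    rwa [smul_smul, div_mul_cancel₀ _ hcu] at h1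
  -- `T` = vectors all whose multiples are axes
  let T : Submodule F (ι → F) :=
    { carrier := {v | ∀ d : F, HasTv M a (axisOf f (d • v))}
      add_mem' := fun {p q} hp hq d => by rw [smul_add, axisOf_add hf]; exact (hp d).add_axis (hq d)
      zero_mem' := fun d => by rw [smul_zero, axisOf_zero hf]; exact hasTv_zero_right M a
      smul_mem' := fun e v hv d => by rw [smul_smul]; exact hv (d * e) }
  have hiso : ∀ v, f a v = 0 → f v v = 0 → f w v ≠ 0 → v ∈ T := by
    intro v hav hv hwv d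
    have h1 := hasTv_tv_shift hf hM hv hc hav (hline (d / (c * f w v)))
    rw [hf.smul_left, show c * (d / (c * f w v) * f w v) = d by field_simp] at h1
    exact h1
  have hwz : ∀ v, f a v = 0 → f v v = 0 → v ∈ T := by
    intro v hav hv
    by_cases hwv : f w v = 0
    · obtain ⟨v₀, hv₀a, hv₀, hwv₀⟩ : ∃ v₀, f a v₀ = 0 ∧ f v₀ v₀ = 0 ∧ f w v₀ ≠ 0 := by
        by_contra hcon
        push Not at hcon
        have hST : ∀ y, f a y = 0 → f y w = 0 := fun y hy =>
          LinearMap.mem_ker.1 ((mem_of_isotropic hf (S := S) (T := LinearMap.ker (L.toLin w)) hza hxa hz hzx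
            fun y hy hyy => LinearMap.mem_ker.2 (by
              change f y w = 0
              rw [hf.herm, hcon y hy hyy, map_zero])) hy)
        exact huw (hST u (by rw [← L.dot]; exact hu.1))
      obtain ⟨d, hd0, hd⟩ := exists_isotropic_combination hf hv hv₀
      have h1 := hiso (v + d • v₀) (by simp [add_right hf, smul_right hf, hav, hv₀a]) hd
        (by simp [add_right hf, smul_right hf, hwv, hwv₀, hd0])
      exact (T.add_mem_iff_left (T.smul_mem d (hiso v₀ hv₀a hv₀ hwv₀))).1 h1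
    · exact hiso v hav hv hwv
  have hST : S ≤ T := mem_of_isotropic hf hza hxa hz hzx fun v hv hvv => hwz v hv hvv
  intro φ hφ
  obtain ⟨v, rfl⟩ := exists_axis hf φ
  simpa using hST (x := v) (by rw [L.dot] at hφ; exact hφ) 1

lemma fullAt_of_anisotropic {a u : ι → F} (ha : f a a ≠ 0) (hu0 : u ≠ 0)
    (hu : HasTv M a (axisOf f u)) : ∃ b, f b b = 0 ∧ b ≠ 0 ∧ FullAt M b := by
  have L := linLeft hf
  have hau : f a u = 0 := by rw [← L.dot]; exact hu.1
  obtain ⟨c, hc0, hc⟩ := exists_skew hf.ne_refl hf.involutive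
  obtain ⟨z, x, hz, hzx, hza, hxa⟩ := exists_isotropic_perp hf ![a] (by omega)
  have hza : f a z = 0 := by rw [hf.herm, show f z a = 0 from hza 0, map_zero]
  have hxa : f a x = 0 := by rw [hf.herm, show f x a = 0 from hxa 0, map_zero]
  let S : Submodule F (ι → F) :=
    { carrier := {v | f a v = 0}
      add_mem' := fun {p q} hp hq => by
        simp only [Set.mem_ofPred_eq] at *
        rw [add_right hf, hp, hq, add_zero]
      zero_mem' := zero_right hf a
      smul_mem' := fun e v hv => by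
        simp only [Set.mem_ofPred_eq] at *
        rw [smul_right hf, hv, mul_zero] }
  obtain ⟨w, haw, hww, huw⟩ : ∃ w, f a w = 0 ∧ f w w = 0 ∧ f u w ≠ 0 := by
    by_contra hcon
    push Not at hcon
    have hST : ∀ y, f a y = 0 → f y u = 0 := fun y hy =>
      LinearMap.mem_ker.1 ((mem_of_isotropic hf (S := S) (T := LinearMap.ker (L.toLin u)) hza hxa hz hzx
        fun y hy hyy => LinearMap.mem_ker.2 (by
          change f y u = 0
          rw [hf.herm, hcon y hy hyy, map_zero])) hy)
    refine hu0 (eq_zero_of_axis hf (funext fun i => ?_))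
    have h1 := hST (Pi.single i 1 - σ (f a (Pi.single i 1) / f a a) • a) (by
      rw [sub_eq_add_neg, ← neg_smul, add_right hf, smul_right hf, map_neg, hf.involutive, neg_mul,
        div_mul_cancel₀ _ ha, add_neg_cancel])
    rw [L.sub_left, hf.smul_left, hau, mul_zero, sub_zero] at h1
    simpa [axisOf] using h1
  have hw1 := hasTv_tv_shift hf hM hww hc haw hu
  set w1 := (c * f u w) • w with hw1def
  have hw10 : w1 ≠ 0 := by
    rw [hw1def]
    exact smul_ne_zero (mul_ne_zero hc0 huw) fun h => huw (by rw [h, zero_right hf])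
  obtain ⟨y, hy0, hy⟩ := exists_anisotropic_perp_two hf ha haw h7
  have hya : f y a = 0 := hy 0
  have hyw : f y w = 0 := hy 1
  have hay : f a y = 0 := by rw [hf.herm, hya, map_zero]
  obtain ⟨d, hd⟩ := exists_norm_eq hf.ne_refl hf.involutive (t := -f a a / f y y)
    (by rw [map_div₀, map_neg, sigma_self hf, sigma_self hf])
  obtain ⟨b, hbdef⟩ : ∃ b, b = a + d • y := ⟨_, rfl⟩
  have hbb : f b b = 0 := by
    rw [hbdef]
    simp only [hf.add_left, add_right hf, hf.smul_left, smul_right hf, hay, hya]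
    field_simp at hd
    linear_combination hd
  have hab : f a b = f a a := by simp [hbdef, add_right hf, smul_right hf, hay]
  have hbw1 : f b w1 = 0 := by simp [hbdef, hw1def, hf.add_left, hf.smul_left, smul_right hf, haw, hyw]
  have hb0 : b ≠ 0 := fun h => ha (by rw [← hab, h, zero_right hf])
  have h1 : HasTv M b (c • axisOf f b) := ⟨_, hM (tv_mem hf hbb hc)⟩
  have h2 := h1.comm hw1 (by rw [L.dot, hbw1])
  rw [smul_dotProduct, L.dot, hab, smul_eq_mul,
    show (c * f a a) • axisOf f w1 = axisOf f (σ (c * f a a) • w1) by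
      rw [axisOf_smul hf (σ (c * f a a)) w1, hf.involutive]] at h2
  refine ⟨b, hbb, hb0, fullAt_of_axis hf hM h7 hbb hb0 ?_ h2⟩
  intro hmem
  obtain ⟨e, he⟩ := Submodule.mem_span_singleton.1 hmem
  have haw1 : f a (σ (c * f a a) • w1) = 0 := by simp [smul_right hf, hw1def, haw]
  rw [← he, smul_right hf, hab] at haw1
  rcases mul_eq_zero.1 haw1 with h | h
  · rw [map_eq_zero] at h
    rw [h, zero_smul] at he
    rcases smul_eq_zero.1 he.symm with h' | h'
    · rw [map_eq_zero] at h'; exact mul_ne_zero hc0 ha h'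
    · exact hw10 h'
  · exact ha h

omit hM in
lemma mem_similarity {g : GL ι F}
    (hg : ∀ v, f v v = 0 → ∃ μ : F, ∀ x,
      f ((g : Matrix ι ι F) *ᵥ x) ((g : Matrix ι ι F) *ᵥ v) = μ * f x v) :
    g ∈ similarityGroup f := by
  have L := linLeft hf
  choose μ hμ using hg
  obtain ⟨z, x₀, hz, hzx, -, -⟩ := exists_isotropic_perp hf (![] : Fin 0 → (ι → F)) (by omega)
  have hz0 : z ≠ 0 := fun h => hzx (by rw [h, L.zero_left])
  have hconst : ∀ v (hv : f v v = 0), v ≠ 0 → μ v hv = μ z hz := by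
    intro v hv hv0
    by_cases hmem : v ∈ F ∙ z
    · obtain ⟨e, rfl⟩ := Submodule.mem_span_singleton.1 hmem
      obtain ⟨x, hx⟩ := (hf.nondegenerate _ hv0).1
      have h1 := hμ _ hv x
      rw [Matrix.mulVec_smul, smul_right hf, hμ z hz x, mul_left_comm, ← smul_right hf] at h1
      exact (mul_right_cancel₀ hx h1).symm
    · have hmem' : z ∉ F ∙ v := by
        intro h
        obtain ⟨e, he⟩ := Submodule.mem_span_singleton.1 h
        rcases eq_or_ne e 0 with rfl | he0
        · exact hz0 (by simpa using he.symm)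
        · exact hmem (Submodule.mem_span_singleton.2 ⟨e⁻¹, by rw [← he, smul_smul, inv_mul_cancel₀ he0, one_smul]⟩)
      obtain ⟨d, hd0, hd⟩ := exists_isotropic_combination hf hv hz
      obtain ⟨p, hzp, hvp⟩ := exists_f_eq hf hmem
      obtain ⟨q, hvq, hzq⟩ := exists_f_eq hf hmem'
      have hpz : f p z = 0 := by rw [hf.herm, hzp, map_zero]
      have hpv : f p v = 1 := by rw [hf.herm, hvp, map_one]
      have hqv : f q v = 0 := by rw [hf.herm, hvq, map_zero]
      have hqz : f q z = 1 := by rw [hf.herm, hzq, map_one]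
      have e1 := hμ _ hd p
      have e2 := hμ _ hd q
      rw [Matrix.mulVec_add, Matrix.mulVec_smul, add_right hf, smul_right hf, hμ v hv, hμ z hz,
        add_right hf, smul_right hf, hpz, hpv] at e1
      rw [Matrix.mulVec_add, Matrix.mulVec_smul, add_right hf, smul_right hf, hμ v hv, hμ z hz,
        add_right hf, smul_right hf, hqz, hqv] at e2
      simp only [mul_zero, mul_one, add_zero, zero_add] at e1 e2
      have hσd : σ d ≠ 0 := by simpa using hd0
      rw [e1]
      exact mul_right_cancel₀ hσd (by linear_combination -e2)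
  let T : Submodule F (ι → F) :=
    { carrier := {y | ∀ x, f ((g : Matrix ι ι F) *ᵥ x) ((g : Matrix ι ι F) *ᵥ y) = μ z hz * f x y}
      add_mem' := fun {p q} hp hq x => by
        rw [Matrix.mulVec_add, add_right hf, add_right hf, hp x, hq x, mul_add]
      zero_mem' := fun x => by rw [Matrix.mulVec_zero, zero_right hf, zero_right hf, mul_zero]
      smul_mem' := fun e p hp x => by
        rw [Matrix.mulVec_smul, smul_right hf, smul_right hf, hp x, mul_left_comm] }
  have hT : (⊤ : Submodule F (ι → F)) ≤ T :=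
    mem_of_isotropic hf (z := z) (x := x₀) trivial trivial hz hzx fun v _ hv => by
      rcases eq_or_ne v 0 with rfl | hv0
      · exact T.zero_mem
      · intro x; rw [← hconst v hv hv0]; exact hμ v hv x
  refine ⟨Units.mk0 (μ z hz) fun h0 => ?_, fun u v => hT (x := v) trivial u⟩
  have hgz : (g : Matrix ι ι F) *ᵥ z ≠ 0 := fun e => hz0 (by
    rw [← inv_mulVec_mulVec g z, e, Matrix.mulVec_zero])
  obtain ⟨y, hy⟩ := (hf.nondegenerate _ hgz).1
  have := hμ z hz (((g⁻¹ : GL ι F) : Matrix ι ι F) *ᵥ y)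
  rw [mulVec_inv_mulVec, h0, zero_mul] at this
  exact hy this

theorem key (hne : ¬ M ≤ similarityGroup f) : specialLinear ι F ≤ M := by
  have L := linLeft hf
  obtain ⟨c, hc0, hc⟩ := exists_skew hf.ne_refl hf.involutive
  obtain ⟨g, hg, hgX⟩ := SetLike.not_le_iff_exists.1 hne
  obtain ⟨b, hb, hb0, hfull⟩ : ∃ b, f b b = 0 ∧ b ≠ 0 ∧ FullAt M b := by
    by_contra hcon
    push Not at hcon
    refine hgX (mem_similarity hf h7 fun v hv => ?_)
    rcases eq_or_ne v 0 with rfl | hv0
    · exact ⟨0, fun x => by rw [Matrix.mulVec_zero, zero_right hf, zero_right hf, mul_zero]⟩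
    have h1 := (show HasTv M v (c • axisOf f v) from ⟨_, hM (tv_mem hf hv hc)⟩).conj hg
    obtain ⟨u, hu⟩ := exists_axis hf ((c • axisOf f v) ᵥ* ((g⁻¹ : GL ι F) : Matrix ι ι F))
    obtain ⟨a, hadef⟩ : ∃ a, a = (g : Matrix ι ι F) *ᵥ v := ⟨_, rfl⟩
    rw [← hadef, ← hu] at h1
    have hukey : ∀ x, c * f x v = f ((g : Matrix ι ι F) *ᵥ x) u := fun x => by
      rw [← L.dot u, hu, vecMul_dotProduct_mulVec, smul_dotProduct, L.dot, smul_eq_mul]
    obtain ⟨x₁, hx₁⟩ := (hf.nondegenerate v hv0).1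
    have hu0 : u ≠ 0 := fun h => mul_ne_zero hc0 hx₁ (by rw [hukey, h, zero_right hf])
    have ha0 : a ≠ 0 := fun h => hv0 (by
      rw [← inv_mulVec_mulVec g v, ← hadef, h, Matrix.mulVec_zero])
    rw [← hadef]
    by_cases haa : f a a = 0
    · by_cases hua : u ∈ F ∙ a
      · obtain ⟨e, rfl⟩ := Submodule.mem_span_singleton.1 hua
        have he : σ e ≠ 0 := fun h => hu0 (by rw [(map_eq_zero σ).1 h, zero_smul])
        refine ⟨c / σ e, fun x => ?_⟩
        have h2 := hukey x
        rw [smul_right hf] at h2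
        rw [div_mul_eq_mul_div, eq_div_iff he, h2, mul_comm]
      · exact absurd (fullAt_of_axis hf hM h7 haa ha0 hua h1) (hcon a haa ha0)
    · obtain ⟨b, hb, hb0, hb'⟩ := fullAt_of_anisotropic hf hM h7 haa hu0 h1
      exact absurd hb' (hcon b hb hb0)
  refine specialLinear_le_of_fullSubmodule (eq_top_iff.2 ?_)
  obtain ⟨z, x, hz, hzx, -, -⟩ := exists_isotropic_perp hf (![] : Fin 0 → (ι → F)) (by omega)
  have hout : ∀ w, f w w = 0 → f b w ≠ 0 → w ∈ fullSubmodule M := by
    intro w hw hbw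
    have h1 := fullSubmodule_invariant (M := M) (a := b) hfull (hM (tv_mem hf hw hc))
    rw [tvec_mulVec, smul_dotProduct, L.dot, smul_eq_mul] at h1
    exact ((fullSubmodule M).smul_mem_iff (mul_ne_zero hc0 hbw)).1
      (((fullSubmodule M).add_mem_iff_right (show b ∈ fullSubmodule M from hfull)).1 h1)
  refine mem_of_isotropic hf (z := z) (x := x) trivial trivial hz hzx fun v _ hv => ?_
  by_cases hbv : f b v = 0
  · obtain ⟨w, hw, hbw⟩ : ∃ w, f w w = 0 ∧ f b w ≠ 0 := by
      obtain ⟨y, hy⟩ := (hf.nondegenerate b hb0).2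
      obtain ⟨e, he⟩ := exists_isotropic_add hf hb hy
      exact ⟨y + e • b, he, by simpa [add_right hf, smul_right hf, hb] using hy⟩
    obtain ⟨d, hd0, hd⟩ := exists_isotropic_combination hf hv hw
    have h1 := hout (v + d • w) hd (by simp [add_right hf, smul_right hf, hbv, hbw, hd0])
    exact ((fullSubmodule M).add_mem_iff_left ((fullSubmodule M).smul_mem d (hout w hw hbw))).1 h1
  · exact hout v hv hbv

omit hM in
theorem proper : ¬ specialLinear ι F ≤ similarityGroup f := by
  intro hle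
  have L := linLeft hf
  obtain ⟨a, ha, -⟩ := exists_anisotropic_perp hf (![] : Fin 0 → (ι → F)) (by omega)
  obtain ⟨v, hv, hv'⟩ := exists_anisotropic_perp hf ![a] (by omega)
  have hva : f v a = 0 := hv' 0
  have hav : f a v = 0 := by rw [hf.herm, hva, map_zero]
  have hφ : axisOf f v ⬝ᵥ a = 0 := by rw [L.dot, hav]
  obtain ⟨e, he⟩ := hle (tvec_mem_specialLinear a (axisOf f v) hφ)
  have h1 := he a a
  have h2 := he v a
  simp only [tvec_mulVec, L.dot, hav, zero_smul, add_zero] at h1 h2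
  rw [hf.add_left, hf.smul_left, hva, zero_add, mul_zero] at h2
  exact mul_ne_zero hv ha h2

end CfsgLib.Geo.Unit4
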